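import Mathlib
import Cfsg.Agent.Lib.Helper4.UniStmt
import Cfsg.Agent.Lib.Helper4.SchA

/-!
S4395, piece FMP: existence of the field model from `FMB` and `FMA`.
-/

set_option autoImplicit false
universe u

namespace Cfsg.Agent.Lib.Helper34.UniFMP

open Cfsg.Agent.Lib.Helper4.UniStmt

/-- fixed points of an automorphism -/
def fixSub {T : Type u} [Group T] (σ : MulAut T) : Subgroup T where
  carrier := {t | σ t = t}
  one_mem' := map_one σ
  mul_mem' := fun {a b} (ha : σ a = a) (hb : σ b = b) => by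
    show σ (a * b) = a * b
    rw [map_mul, ha, hb]
  inv_mem' := fun {a} (ha : σ a = a) => by
    show σ a⁻¹ = a⁻¹
    rw [map_inv, ha]

theorem mem_fixSub {T : Type u} [Group T] (σ : MulAut T) (t : T) : t ∈ fixSub σ ↔ σ t = t :=
  Iff.rfl

theorem main : FMP.{u} := by
  intro hFMB hFMA p q _ _ hpq T _ _ σ hH
  obtain ⟨hT, hσq, hσ1, hR⟩ := hH
  have hp : p.Prime := Fact.out
  have hq : q.Prime := Fact.out
  -- structural facts
  have key : (∀ a b : T, a * b * a⁻¹ * b⁻¹ ∈ fixSub σ) ∧ (∀ a : T, a ^ p ∈ fixSub σ) ∧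
      (∀ t : T, σ t = t → t ∈ Subgroup.center T) := by
    by_cases hab : ∀ a b : T, a * b = b * a
    · obtain ⟨h1, h2⟩ := hFMA p q hpq T σ ⟨hT, hσq, hσ1, hR⟩ hab
      refine ⟨fun a b => ?_, fun a => ?_, fun t ht => ?_⟩
      · have : a * b * a⁻¹ * b⁻¹ = 1 := by rw [hab a b]; group
        rw [this]; exact (fixSub σ).one_mem
      · rw [h2 a]; exact (fixSub σ).one_mem
      · rw [h1 t ht]; exact Subgroup.one_mem _
    · obtain ⟨h1, h2, _, _, h5⟩ :=
        Cfsg.Agent.Lib.Helper4.SchA.sep_basic p hT σ q hq hpq.symm hσq hσ1 hR hab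
      exact ⟨fun a b => (h5 _).2 (h1 a b), fun a => (h5 _).2 (h2 a), fun t ht => (h5 t).1 ht⟩
  obtain ⟨hcomm, hpow, hcen⟩ := key
  have hN : (fixSub σ).Normal := by
    constructor
    intro n hn g
    have hz := Subgroup.mem_center_iff.1 (hcen n hn) g
    have : g * n * g⁻¹ = n := by
      rw [hz]; group
    rw [this]; exact hn
  have hNinv : fixSub σ ≤ (fixSub σ).comap σ.toMonoidHom := by
    intro t ht
    exact congrArg σ ht
  have hNtop : fixSub σ ≠ ⊤ := by
    intro h
    apply hσ1
    ext t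
    have : t ∈ fixSub σ := h ▸ Subgroup.mem_top t
    exact this
  -- the quotient
  have hVcomm : ∀ a b : T ⧸ fixSub σ, a * b = b * a := by
    intro a b
    induction a using QuotientGroup.induction_on with
    | H a =>
      induction b using QuotientGroup.induction_on with
      | H b =>
        rw [← QuotientGroup.mk_mul, ← QuotientGroup.mk_mul, QuotientGroup.eq]
        have h := hcomm b⁻¹ a⁻¹
        have e : (a * b)⁻¹ * (b * a) = b⁻¹ * a⁻¹ * b⁻¹⁻¹ * a⁻¹⁻¹ := by group
        rw [e]
        exact h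
  have hVexp : ∀ v : T ⧸ fixSub σ, v ^ p = 1 := by
    intro v
    induction v using QuotientGroup.induction_on with
    | H a =>
      rw [← QuotientGroup.mk_pow, QuotientGroup.eq_one_iff]
      exact hpow a
  have hVne : ∃ v : T ⧸ fixSub σ, v ≠ 1 := by
    by_contra hcon
    push Not at hcon
    apply hNtop
    rw [eq_top_iff]
    intro t _
    exact (QuotientGroup.eq_one_iff t).1 (hcon t)
  set c : T ⧸ fixSub σ →* T ⧸ fixSub σ :=
    QuotientGroup.map (fixSub σ) (fixSub σ) σ.toMonoidHom hNinv with hc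
  have hcmk : ∀ t : T, c (QuotientGroup.mk t) = QuotientGroup.mk (σ t) := by
    intro t
    rfl
  have hVirr : ∀ A : Subgroup (T ⧸ fixSub σ), (∀ v ∈ A, c v ∈ A) → A = ⊥ ∨ A = ⊤ := by
    intro A hA
    by_cases hRt : A.comap (QuotientGroup.mk' (fixSub σ)) = ⊤
    · right
      rw [eq_top_iff]
      intro v _
      induction v using QuotientGroup.induction_on with
      | H a =>
        have : a ∈ A.comap (QuotientGroup.mk' (fixSub σ)) := hRt ▸ Subgroup.mem_top a
        exact this
    · left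
      have hfix := hR _ hRt (fun r hr => by
        have h1 : c (QuotientGroup.mk r) ∈ A := hA _ hr
        rw [hcmk] at h1
        exact h1)
      rw [eq_bot_iff]
      intro v hv
      induction v using QuotientGroup.induction_on with
      | H a =>
        rw [Subgroup.mem_bot, QuotientGroup.eq_one_iff]
        exact hfix a hv
  obtain ⟨F, iF, iFin, iChar, eV, lam, hadd, hbij, hlam⟩ :=
    hFMB p (T ⧸ fixSub σ) hVcomm hVexp hVne c hVirr
  have heV1 : eV 1 = 0 := by
    have h := hadd 1 1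
    rw [mul_one] at h
    exact (add_left_cancel (a := eV 1) (by rw [add_zero]; exact h)).symm
  have heVinv : ∀ v, eV v⁻¹ = - eV v := by
    intro v
    have h := hadd v v⁻¹
    rw [mul_inv_cancel, heV1] at h
    exact (neg_eq_of_add_eq_zero_right h.symm).symm
  have heV0 : ∀ v, eV v = 0 ↔ v = 1 := by
    intro v
    constructor
    · intro h
      exact hbij.1 (h.trans heV1.symm)
    · rintro rfl
      exact heV1
  have he0 : ∀ t : T, eV (QuotientGroup.mk t) = 0 ↔ σ t = t := by
    intro t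
    rw [heV0, QuotientGroup.eq_one_iff]
    exact mem_fixSub σ t
  have heσ : ∀ t : T, eV (QuotientGroup.mk (σ t)) = lam * eV (QuotientGroup.mk t) := by
    intro t
    rw [← hcmk, hlam]
  have heσpow : ∀ (j : ℕ) (t : T),
      eV (QuotientGroup.mk ((σ ^ j) t)) = lam ^ j * eV (QuotientGroup.mk t) := by
    intro j
    induction j with
    | zero => intro t; simp
    | succ j ih =>
      intro t
      rw [pow_succ', MulAut.mul_apply, heσ, ih, pow_succ', mul_assoc]
  refine ⟨F, iF, iFin, iChar, fun t => eV (QuotientGroup.mk t), lam, ?_, ?_, he0, hcen, ?_, heσ,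
    ?_, ?_, ?_⟩
  · intro s t
    show eV (QuotientGroup.mk (s * t)) = _
    rw [QuotientGroup.mk_mul, hadd]
  · intro x
    obtain ⟨v, rfl⟩ := hbij.2 x
    obtain ⟨t, rfl⟩ := QuotientGroup.mk_surjective v
    exact ⟨t, rfl⟩
  · intro hab
    exact (hFMA p q hpq T σ ⟨hT, hσq, hσ1, hR⟩ hab).1
  · intro hl
    apply hσ1
    ext t
    rw [MulAut.one_apply]
    have h1 := heσ t
    rw [hl, one_mul] at h1
    have h2 := hbij.1 h1
    rw [QuotientGroup.eq] at h2
    -- `(σ t)⁻¹ * t` is fixed
    have h3 : σ ((σ t)⁻¹ * t) = (σ t)⁻¹ * t := h2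
    have h4 : σ (σ t) = σ t * ((σ t)⁻¹ * t)⁻¹ := by
      have e1 : σ (σ t) = σ t * (σ ((σ t)⁻¹ * t))⁻¹ := by
        rw [map_mul, map_inv]; group
      rw [e1, h3]
    have h5 : ((σ t)⁻¹ * t)⁻¹ = 1 :=
      Cfsg.Agent.Lib.Helper4.SchA.cop hp hT σ hq hpq.symm hσq h4 (by rw [map_inv, h3])
    have h6 : (σ t)⁻¹ * t = 1 := inv_eq_one.1 h5
    exact (inv_mul_eq_one.1 h6)
  · obtain ⟨v, hv⟩ := hbij.2 (1 : F)
    obtain ⟨t, rfl⟩ := QuotientGroup.mk_surjective v
    have h1 := heσpow q t
    rw [hσq, MulAut.one_apply, hv, mul_one] at h1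
    exact h1.symm
  · intro A hA
    let A' : Subgroup (T ⧸ fixSub σ) :=
      { carrier := {v | eV v ∈ A}
        one_mem' := by
          show eV 1 ∈ A
          rw [heV1]; exact A.zero_mem
        mul_mem' := fun {a b} (ha : eV a ∈ A) (hb : eV b ∈ A) => by
          show eV (a * b) ∈ A
          rw [hadd]; exact A.add_mem ha hb
        inv_mem' := fun {a} (ha : eV a ∈ A) => by
          show eV a⁻¹ ∈ A
          rw [heVinv]; exact A.neg_mem ha }
    have hA' : ∀ v ∈ A', c v ∈ A' := by
      intro v (hv : eV v ∈ A)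
      show eV (c v) ∈ A
      rw [hlam]
      exact hA _ hv
    rcases hVirr A' hA' with h | h
    · left
      rw [eq_bot_iff]
      intro x hx
      obtain ⟨v, rfl⟩ := hbij.2 x
      have hv : v ∈ A' := hx
      rw [h, Subgroup.mem_bot] at hv
      rw [hv, heV1]
      exact AddSubgroup.zero_mem _
    · right
      rw [eq_top_iff]
      intro x _
      obtain ⟨v, rfl⟩ := hbij.2 x
      have hv : v ∈ A' := h ▸ Subgroup.mem_top v
      exact hv

end Cfsg.Agent.Lib.Helper34.UniFMP
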