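import Mathlib
import Cfsg.Agent.Lib.Helper25.ACStmt
import Cfsg.Agent.Lib.Helper34.ACQNORMAL

/-!
# S3912 piece NOEIGHTHAT (call of helper25), elementwise route

`x` of order 8, `i = x * x`, `z = i * i` the involution (central).  Every `y ∈ V` has
`y * y ∈ {1, z}`; hence `i * y = y * i` or `i * y = y * i⁻¹` for `y ∈ V`, and the elements of `V`
commuting with `i` are `1, z, i, i * z`.  Some `j ∈ V` does not commute with `i`; so does
`w = x⁻¹ * j * x`; `w * j` commutes with `i`, and `w * j ∉ {1, z}` (conjugate once more), so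
`(x * j) * (x * j) = i * (w * j) ∈ {z, 1}`: `x * j ∈ V`, `x ∈ V`, contradiction.
-/

set_option autoImplicit false

universe u

namespace Cfsg.Agent.Lib.Helper34.ACNOEIGHTHAT

open Cfsg.Agent.Lib.Helper25.ACStmt

theorem main : NoEightHat.{u} := by
  intro Q _ _ huniq V hVn hVc hnab hall x hx8
  have hx8' : x ^ 8 = 1 := by rw [← hx8]; exact pow_orderOf_eq_one x
  obtain ⟨i, hi2⟩ : ∃ i : Q, x * x = i := ⟨_, rfl⟩
  obtain ⟨z, hii⟩ : ∃ z : Q, i * i = z := ⟨_, rfl⟩
  have hzx : z = x ^ 4 := by
    rw [← hii, ← hi2, ← pow_two, ← pow_two, ← pow_mul]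
  have hzz : z * z = 1 := by
    rw [hzx, ← pow_add]
    exact hx8'
  have hz1 : z ≠ 1 := by
    rw [hzx]
    exact pow_ne_one_of_lt_orderOf (by norm_num) (by rw [hx8]; norm_num)
  have hzo : orderOf z = 2 := orderOf_eq_prime (by rw [pow_two]; exact hzz) hz1
  have inv2 : ∀ y : Q, y * y = 1 → y = 1 ∨ y = z := by
    intro y hy
    by_cases h1 : y = 1
    · exact Or.inl h1
    · exact Or.inr (huniq y z (orderOf_eq_prime (by rw [pow_two]; exact hy) h1) hzo)
  have zc : ∀ g : Q, z * g = g * z := by
    intro g
    have h1 : (g * z * g⁻¹) * (g * z * g⁻¹) = 1 := by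
      calc (g * z * g⁻¹) * (g * z * g⁻¹) = g * (z * z) * g⁻¹ := by group
        _ = 1 := by rw [hzz]; group
    rcases inv2 _ h1 with h | h
    · exfalso
      apply hz1
      have h' : z = g⁻¹ * (g * z * g⁻¹) * g := by group
      rw [h', h]
      group
    · calc z * g = g * z * g⁻¹ * g := by rw [h]
        _ = g * z := by group
  have hzC : ∀ g : Q, Commute z g := zc
  have V4 : ∀ y ∈ V, y ^ 4 = 1 := fun y hy =>
    Cfsg.Agent.Lib.Helper34.ACQNORMAL.pow_four V hVc hnab y hy
  have sq : ∀ y ∈ V, y * y = 1 ∨ y * y = z := by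
    intro y hy
    apply inv2
    have h' : y * y * (y * y) = y ^ 4 := by
      rw [← pow_two, ← pow_two, ← pow_mul]
    rw [h', V4 y hy]
  have hiV : i ∈ V := by
    apply hall
    have h' : i ^ 4 = x ^ 8 := by
      rw [← hi2, ← pow_two, ← pow_mul]
    rw [h', hx8']
  have hxV : x ∉ V := fun h => hz1 (by rw [hzx]; exact V4 x h)
  have hxi : x * i = i * x := by
    rw [← hi2]
    group
  have hinvi : i⁻¹ = i * z := inv_eq_of_mul_eq_one_right (by rw [← mul_assoc, hii, hzz])
  -- claim A
  have claimA : ∀ y ∈ V, i * y = y * i ∨ i * y = y * i⁻¹ := by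
    intro y hy
    rcases sq (i * y) (V.mul_mem hiV hy) with h | h
    · left
      rcases inv2 _ h with h1 | h1
      · have hy' : y = i⁻¹ := eq_inv_of_mul_eq_one_right h1
        rw [hy']
        group
      · have hy' : y = i⁻¹ * z := by
          rw [← h1]
          group
        rw [hy', mul_assoc, zc i]
        group
    · have h1 : y * i * y = i := by
        apply mul_left_cancel (a := i)
        calc i * (y * i * y) = i * y * (i * y) := by group
          _ = z := h
          _ = i * i := hii.symm
      rcases sq y hy with h2 | h2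
      · left
        calc i * y = (y * i * y) * y := by rw [h1]
          _ = y * i * (y * y) := by group
          _ = y * i := by rw [h2, mul_one]
      · right
        calc i * y = (y * i * y) * y := by rw [h1]
          _ = y * i * (y * y) := by group
          _ = y * (i * z) := by rw [h2, mul_assoc]
          _ = y * i⁻¹ := by rw [hinvi]
  -- claim B
  have claimB : ∀ y ∈ V, i * y = y * i → y = 1 ∨ y = z ∨ y = i ∨ y = i * z := by
    intro y hy hc
    rcases sq y hy with h | h
    · rcases inv2 y h with h1 | h1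
      · exact Or.inl h1
      · exact Or.inr (Or.inl h1)
    · have h1 : y * i * (y * i) = 1 := by
        calc y * i * (y * i) = y * (i * y) * i := by group
          _ = y * (y * i) * i := by rw [hc]
          _ = (y * y) * (i * i) := by group
          _ = 1 := by rw [h, hii, hzz]
      rcases inv2 _ h1 with h2 | h2
      · right; right; right
        rw [← hinvi]
        exact eq_inv_of_mul_eq_one_left h2
      · right; right; left
        have h3 : y = z * i⁻¹ := eq_mul_inv_of_mul_eq h2
        rw [h3, hinvi, ← mul_assoc, zc i, mul_assoc, hzz, mul_one]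
  have comm4 : ∀ p q : Q, Commute i q → (p = 1 ∨ p = z ∨ p = i ∨ p = i * z) → Commute p q := by
    intro p q hq hp
    rcases hp with h | h | h | h
    · rw [h]; exact Commute.one_left q
    · rw [h]; exact hzC q
    · rw [h]; exact hq
    · rw [h]; exact hq.mul_left (hzC q)
  obtain ⟨a, ha, b, hb, hab⟩ := hnab
  have hj : ∃ j ∈ V, i * j ≠ j * i := by
    by_contra hcon
    push Not at hcon
    exact hab (comm4 a b (hcon b hb) (claimB a ha (hcon a ha))).eq
  obtain ⟨j, hj, hij⟩ := hj
  have hijA : i * j = j * i⁻¹ := (claimA j hj).resolve_left hij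
  have hjj : j * j = z := by
    rcases sq j hj with h | h
    · exfalso
      apply hij
      exact (comm4 j i (Commute.refl i) (by
        rcases inv2 j h with h1 | h1
        · exact Or.inl h1
        · exact Or.inr (Or.inl h1))).eq.symm
    · exact h
  have hjinv : j⁻¹ = j * z := inv_eq_of_mul_eq_one_right (by rw [← mul_assoc, hjj, hzz])
  have hinvij : i⁻¹ * j = j * i := by
    calc i⁻¹ * j = i⁻¹ * (j * i⁻¹) * i := by group
      _ = i⁻¹ * (i * j) * i := by rw [hijA]
      _ = j * i := by group
  obtain ⟨w, hwdef⟩ : ∃ w : Q, w = x⁻¹ * j * x := ⟨_, rfl⟩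
  have hw : w ∈ V := by
    have h := hVn.conj_mem j hj x⁻¹
    rw [inv_inv] at h
    rw [hwdef]
    exact h
  have hiw : i * w ≠ w * i := by
    intro h
    apply hij
    have e1 : x * (i * w) * x⁻¹ = i * j := by
      calc x * (i * w) * x⁻¹ = (x * i) * x⁻¹ * j * (x * x⁻¹) := by rw [hwdef]; group
        _ = (i * x) * x⁻¹ * j * (x * x⁻¹) := by rw [hxi]
        _ = i * j := by group
    have e2 : x * (w * i) * x⁻¹ = j * i := by
      calc x * (w * i) * x⁻¹ = j * (x * i) * x⁻¹ := by rw [hwdef]; group
        _ = j * (i * x) * x⁻¹ := by rw [hxi]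
        _ = j * i := by group
    rw [← e1, ← e2, h]
  have hiwA : i * w = w * i⁻¹ := (claimA w hw).resolve_left hiw
  have hu : w * j ∈ V := V.mul_mem hw hj
  have hiu : i * (w * j) = (w * j) * i := by
    calc i * (w * j) = (i * w) * j := by group
      _ = (w * i⁻¹) * j := by rw [hiwA]
      _ = w * (i⁻¹ * j) := by group
      _ = w * (j * i) := by rw [hinvij]
      _ = (w * j) * i := by group
  have hd : x⁻¹ * w * x = j * z := by
    calc x⁻¹ * w * x = (x * x)⁻¹ * j * (x * x) := by rw [hwdef]; group
      _ = i⁻¹ * j * i := by rw [hi2]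
      _ = j * i * i := by rw [hinvij]
      _ = j * z := by rw [mul_assoc, hii]
  have hsq : x * j * (x * j) = i * (w * j) := by
    calc x * j * (x * j) = (x * x) * ((x⁻¹ * j * x) * j) := by group
      _ = i * (w * j) := by rw [hi2, ← hwdef]
  have hfin : (x * j) ^ 4 = 1 → False := by
    intro h4
    have h1 : x * j ∈ V := hall _ h4
    have h2 : x * j * j⁻¹ ∈ V := V.mul_mem h1 (V.inv_mem hj)
    rw [mul_inv_cancel_right] at h2
    exact hxV h2
  have hpow : (x * j) ^ 4 = (x * j * (x * j)) * (x * j * (x * j)) := by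
    rw [show (4 : ℕ) = 2 + 2 from rfl, pow_add, pow_two]
  rcases claimB (w * j) hu hiu with h | h | h | h
  · -- w * j = 1
    have hw1 : w = j * z := by
      rw [← hjinv]
      exact eq_inv_of_mul_eq_one_left h
    have hcon : j = j * z := by
      calc j = j * (z * z) := by rw [hzz, mul_one]
        _ = (j * z) * z := by group
        _ = w * z := by rw [hw1]
        _ = (x⁻¹ * j * x) * z := by rw [← hwdef]
        _ = x⁻¹ * j * (x * z) := by group
        _ = x⁻¹ * j * (z * x) := by rw [zc x]
        _ = x⁻¹ * (j * z) * x := by group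
        _ = x⁻¹ * w * x := by rw [hw1]
        _ = j * z := hd
    exact hz1 (mul_left_cancel (hcon.symm.trans (mul_one j).symm))
  · -- w * j = z
    have hw1 : w = j := by
      have h3 : w = z * j⁻¹ := eq_mul_inv_of_mul_eq h
      rw [h3, hjinv, ← mul_assoc, zc j, mul_assoc, hzz, mul_one]
    have hcon : j = j * z := by
      calc j = w := hw1.symm
        _ = x⁻¹ * j * x := hwdef
        _ = x⁻¹ * w * x := by rw [hw1]
        _ = j * z := hd
    exact hz1 (mul_left_cancel (hcon.symm.trans (mul_one j).symm))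
  · -- w * j = i
    apply hfin
    rw [hpow, hsq, h, hii, hzz]
  · -- w * j = i * z
    apply hfin
    have h5 : i * (i * z) = 1 := by rw [← mul_assoc, hii, hzz]
    rw [hpow, hsq, h, h5, one_mul]

end Cfsg.Agent.Lib.Helper34.ACNOEIGHTHAT
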