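import Mathlib
import Cfsg.Agent.Lib.Helper25.ACStmt

/-!
# S3912 piece VSMALL (call of helper25): from P2Struct

A 2-group with unique involution `z` and all squares in `{1, z}` has order `≤ 8`.
-/

set_option autoImplicit false

universe u

namespace Cfsg.Agent.Lib.Helper34.ACVSMALL

open Cfsg.Agent.Lib.Helper25.ACStmt

theorem main (hP : P2Struct.{u}) : VSmall.{u} := by
  intro V _ _ hV z hz hinv hsq
  classical
  have : Fintype V := Fintype.ofFinite V
  have hz2 : z ^ 2 = 1 := by
    rcases hsq z with h | h
    · exact h
    · exfalso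
      apply hz
      have h' : z * z = z * 1 := by rw [← pow_two, h, mul_one]
      exact mul_left_cancel h'
  have hzz : z * z = 1 := by rw [← pow_two, hz2]
  have hzc : ∀ g : V, z * g = g * z := by
    intro g
    have h1 : (g * z * g⁻¹) ^ 2 = 1 := by
      have h' : (g * z * g⁻¹) ^ 2 = g * (z * z) * g⁻¹ := by
        rw [pow_two]
        group
      rw [h', hzz]
      group
    rcases hinv _ h1 with h | h
    · exfalso
      apply hz
      have h' : z = g⁻¹ * (g * z * g⁻¹) * g := by group
      rw [h', h]
      group
    · calc z * g = g * z * g⁻¹ * g := by rw [h]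
        _ = g * z := by group
  have hsqc : ∀ a g : V, a ^ 2 * g = g * a ^ 2 := by
    intro a g
    rcases hsq a with h | h
    · rw [h, one_mul, mul_one]
    · rw [h]
      exact hzc g
  have h4 : ∀ a : V, a ^ 4 = 1 := by
    intro a
    have h' : a ^ 4 = (a ^ 2) ^ 2 := by rw [← pow_mul]
    rw [h']
    rcases hsq a with h | h
    · rw [h, one_pow]
    · rw [h, hz2]
  have hcomm : ∀ a b : V, a * b * a⁻¹ * b⁻¹ = 1 ∨ a * b * a⁻¹ * b⁻¹ = z := by
    intro a b
    have ia : a⁻¹ = a * a ^ 2 := inv_eq_of_mul_eq_one_right (by
      have h' : a * (a * a ^ 2) = a ^ 4 := by group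
      rw [h', h4])
    have ib : b⁻¹ = b * b ^ 2 := inv_eq_of_mul_eq_one_right (by
      have h' : b * (b * b ^ 2) = b ^ 4 := by group
      rw [h', h4])
    have key : a * b * a⁻¹ * b⁻¹ = (a * b) ^ 2 * a ^ 2 * b ^ 2 := by
      rw [ia, ib]
      calc a * b * (a * a ^ 2) * (b * b ^ 2) = a * b * a * (a ^ 2 * b) * b ^ 2 := by group
        _ = a * b * a * (b * a ^ 2) * b ^ 2 := by rw [hsqc a b]
        _ = (a * b) ^ 2 * a ^ 2 * b ^ 2 := by
          rw [pow_two (a * b)]
          group
    rw [key]
    rcases hsq (a * b) with h1 | h1 <;> rcases hsq a with h2 | h2 <;>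
      rcases hsq b with h3 | h3 <;> rw [h1, h2, h3] <;> simp [hzz]
  by_cases hab : ∃ a b : V, a * b ≠ b * a
  · exact (hP V hV z hz hinv hcomm hab).le
  · push Not at hab
    by_cases hall : ∀ v : V, v ^ 2 = 1
    · have hsub : (Finset.univ : Finset V) ⊆ {1, z} := by
        intro v _
        rcases hinv v (hall v) with h | h <;> simp [h]
      have h1 := Finset.card_le_card hsub
      have h2 : ({1, z} : Finset V).card ≤ 2 := Finset.card_le_two
      rw [Nat.card_eq_fintype_card, ← Finset.card_univ]
      omega
    · push Not at hall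
      obtain ⟨x, hx⟩ := hall
      have hxz : x ^ 2 = z := (hsq x).resolve_left hx
      have hsub : (Finset.univ : Finset V) ⊆ {1, z, x, z * x} := by
        intro v _
        rcases hsq v with h | h
        · rcases hinv v h with h' | h' <;> simp [h']
        · have h1 : (v * x⁻¹) ^ 2 = 1 := by
            have hc : x⁻¹ * v = v * x⁻¹ := hab x⁻¹ v
            have h' : (v * x⁻¹) ^ 2 = v ^ 2 * (x ^ 2)⁻¹ := by
              calc (v * x⁻¹) ^ 2 = v * (x⁻¹ * v) * x⁻¹ := by
                    rw [pow_two]
                    group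
                _ = v * (v * x⁻¹) * x⁻¹ := by rw [hc]
                _ = v ^ 2 * (x ^ 2)⁻¹ := by
                    rw [pow_two, pow_two, mul_inv_rev]
                    group
            rw [h', h, hxz, mul_inv_cancel]
          rcases hinv _ h1 with h' | h'
          · have hvx : v = x := mul_inv_eq_one.1 h'
            simp [hvx]
          · have hvx : v = z * x := by
              rw [← h']
              group
            simp [hvx]
      have h1 := Finset.card_le_card hsub
      have h2 : ({1, z, x, z * x} : Finset V).card ≤ 4 := Finset.card_le_four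
      rw [Nat.card_eq_fintype_card, ← Finset.card_univ]
      omega

end Cfsg.Agent.Lib.Helper34.ACVSMALL
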