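import Mathlib
import Cfsg.Agent.Lib.Helper25.ACStmt
import Cfsg.Agent.Lib.Helper25.ACOddStmt

/-!
# S3911 piece CYCSTEP (call of helper25)

Short route.  `a ∈ M₁`, `b ∈ M₂` with `M₁`, `M₂` of index `p` (normal, proper, hence cyclic).
`c = a b a⁻¹ b⁻¹ ∈ M₁` commutes with `a`, so `a ^ n * b * a ^ (-n) = c ^ n * b`; `a ^ p ∈ M₂`
commutes with `b`, so `c ^ p = 1` and `c ∈ N`.
-/

set_option autoImplicit false

universe u

namespace Cfsg.Agent.Lib.Helper34.AOCYCSTEP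

open Cfsg.Agent.Lib.Helper25.ACStmt Cfsg.Agent.Lib.Helper25.ACOddStmt

/-- an element of a non-cyclic `p`-group lies in a normal subgroup of index `p` -/
theorem exists_max {P : Type u} [Group P] [Finite P] (p : ℕ) [Fact p.Prime] (hP : IsPGroup p P)
    (a : P) (ha : Subgroup.zpowers a ≠ ⊤) :
    ∃ M : Subgroup P, M.Normal ∧ M ≠ ⊤ ∧ a ∈ M ∧ M.index = p := by
  have hp : p.Prime := Fact.out
  obtain ⟨n, hn⟩ := IsPGroup.iff_card.1 hP
  obtain ⟨s, hs⟩ := IsPGroup.iff_card.1 (hP.to_subgroup (Subgroup.zpowers a))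
  have hsn : s < n := by
    have hdvd : Nat.card ↥(Subgroup.zpowers a) ∣ Nat.card P := Subgroup.card_subgroup_dvd_card _
    rw [hs, hn] at hdvd
    have hle : s ≤ n := (Nat.pow_dvd_pow_iff_le_right hp.one_lt).1 hdvd
    rcases Nat.lt_or_ge s n with h | h
    · exact h
    · exfalso
      have hsn : s = n := le_antisymm hle h
      apply ha
      apply Subgroup.eq_top_of_card_eq
      rw [hs, hn, hsn]
  obtain ⟨M, hMc, hMa⟩ := Sylow.exists_subgroup_card_pow_prime_le p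
    (show p ^ (n - 1) ∣ Nat.card P by rw [hn]; exact pow_dvd_pow p (by omega))
    (Subgroup.zpowers a) hs (by omega : s ≤ n - 1)
  have hidx : M.index = p := by
    have h := Subgroup.card_mul_index M
    rw [hMc, hn] at h
    have h2 : p ^ n = p ^ (n - 1) * p := by
      rw [← pow_succ]
      congr 1
      omega
    rw [h2] at h
    exact Nat.eq_of_mul_eq_mul_left (pow_pos hp.pos _) h
  refine ⟨M, ?_, ?_, hMa (Subgroup.mem_zpowers a), hidx⟩
  · apply Subgroup.normal_of_index_eq_minFac_card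
    rw [hidx, hn, Nat.pow_minFac (by omega), Nat.Prime.minFac_eq hp]
  · intro h
    rw [h, Subgroup.index_top] at hidx
    exact hp.one_lt.ne hidx

theorem main : CycStep.{u} := by
  intro P _ _ p _ _ hP N hNc hN hcyc a b
  have hp : p.Prime := Fact.out
  by_cases ha : Subgroup.zpowers a = ⊤
  · -- `b` is a power of `a`
    have hb : b ∈ Subgroup.zpowers a := by rw [ha]; exact Subgroup.mem_top b
    obtain ⟨k, rfl⟩ := Subgroup.mem_zpowers_iff.1 hb
    have hc : a * a ^ k * a⁻¹ * (a ^ k)⁻¹ = 1 := by group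
    rw [hc]
    exact N.one_mem
  by_cases hb : Subgroup.zpowers b = ⊤
  · have ha' : a ∈ Subgroup.zpowers b := by rw [hb]; exact Subgroup.mem_top a
    obtain ⟨k, rfl⟩ := Subgroup.mem_zpowers_iff.1 ha'
    have hc : b ^ k * b * (b ^ k)⁻¹ * b⁻¹ = 1 := by group
    rw [hc]
    exact N.one_mem
  obtain ⟨M₁, hM₁n, hM₁t, haM₁, hM₁i⟩ := exists_max p hP a ha
  obtain ⟨M₂, hM₂n, hM₂t, hbM₂, hM₂i⟩ := exists_max p hP b hb
  have hcy₁ : IsCyclic ↥M₁ := hcyc M₁ hM₁t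
  have hcy₂ : IsCyclic ↥M₂ := hcyc M₂ hM₂t
  -- elements of a cyclic subgroup commute
  have comm₁ : ∀ x ∈ M₁, ∀ y ∈ M₁, x * y = y * x := by
    intro x hx y hy
    obtain ⟨g, hg⟩ := hcy₁.exists_generator
    obtain ⟨i, hi⟩ := Subgroup.mem_zpowers_iff.1 (hg ⟨x, hx⟩)
    obtain ⟨j, hj⟩ := Subgroup.mem_zpowers_iff.1 (hg ⟨y, hy⟩)
    have h1 : (⟨x, hx⟩ : ↥M₁) * ⟨y, hy⟩ = ⟨y, hy⟩ * ⟨x, hx⟩ := by
      rw [← hi, ← hj, ← zpow_add, ← zpow_add, add_comm]
    exact congrArg Subtype.val h1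
  have comm₂ : ∀ x ∈ M₂, ∀ y ∈ M₂, x * y = y * x := by
    intro x hx y hy
    obtain ⟨g, hg⟩ := hcy₂.exists_generator
    obtain ⟨i, hi⟩ := Subgroup.mem_zpowers_iff.1 (hg ⟨x, hx⟩)
    obtain ⟨j, hj⟩ := Subgroup.mem_zpowers_iff.1 (hg ⟨y, hy⟩)
    have h1 : (⟨x, hx⟩ : ↥M₂) * ⟨y, hy⟩ = ⟨y, hy⟩ * ⟨x, hx⟩ := by
      rw [← hi, ← hj, ← zpow_add, ← zpow_add, add_comm]
    exact congrArg Subtype.val h1
  obtain ⟨c, hcdef⟩ : ∃ c, c = a * b * a⁻¹ * b⁻¹ := ⟨_, rfl⟩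
  rw [← hcdef]
  have hcM₁ : c ∈ M₁ := by
    have h : c = a * (b * a⁻¹ * b⁻¹) := by rw [hcdef]; group
    rw [h]
    exact M₁.mul_mem haM₁ (hM₁n.conj_mem _ (M₁.inv_mem haM₁) b)
  have hca : c * a = a * c := comm₁ c hcM₁ a haM₁
  have hkey : ∀ n : ℕ, a ^ n * b * (a ^ n)⁻¹ = c ^ n * b := by
    intro n
    induction n with
    | zero => simp
    | succ n ih =>
      have h1 : a ^ (n + 1) * b * (a ^ (n + 1))⁻¹ = a * (a ^ n * b * (a ^ n)⁻¹) * a⁻¹ := by
        rw [pow_succ']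
        group
      have hcn : a * c ^ n = c ^ n * a := ((Commute.pow_left (show Commute c a from hca) n).eq).symm
      have h2 : a * b * a⁻¹ = c * b := by rw [hcdef]; group
      rw [h1, ih, ← mul_assoc, hcn, mul_assoc (c ^ n) a b, mul_assoc (c ^ n), h2, ← mul_assoc,
        ← pow_succ]
  have hapM₂ : a ^ p ∈ M₂ := by
    have h := Subgroup.pow_index_mem M₂ a
    rw [hM₂i] at h
    exact h
  have hapb : a ^ p * b = b * a ^ p := comm₂ _ hapM₂ b hbM₂
  have hcp : c ^ p = 1 := by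
    have h := hkey p
    rw [hapb, mul_assoc, mul_inv_cancel, mul_one] at h
    exact (mul_eq_right.1 h.symm)
  rcases (Nat.dvd_prime hp).1 (orderOf_dvd_of_pow_eq_one hcp) with h | h
  · rw [orderOf_eq_one_iff.1 h]
    exact N.one_mem
  · exact hN c h

end Cfsg.Agent.Lib.Helper34.AOCYCSTEP
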