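import Mathlib
import Cfsg.Agent.Lib.Helper44.BCStmt

/-!
# S2362 / BLOCKFACTS (helper34): bookkeeping for block forms
-/

set_option autoImplicit false
set_option linter.unusedSectionVars false

namespace Cfsg.Agent.Lib.Helper34.BCBLOCKFACTS

open Matrix Polynomial
open Cfsg.Agent.Lib.Helper44.QSpace Cfsg.Agent.Lib.Helper44.OGroup Cfsg.Agent.Lib.Helper44.OMat
open Cfsg.Agent.Lib.Helper44.OExt Cfsg.Agent.Lib.Helper44.BCStmt

universe u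

variable {F : Type u} [Field F] {ι : Type} [Fintype ι] [DecidableEq ι] {k₁ k₂ : ℕ}

/-- the block form predicate -/
def BF (J : (Fin k₁ ⊕ Fin k₂ → F) ≃ₗ[F] (ι → F)) (D : Matrix ι ι F)
    (D₁ : Matrix (Fin k₁) (Fin k₁) F) (D₂ : Matrix (Fin k₂) (Fin k₂) F) : Prop :=
  ∀ u : Fin k₁ ⊕ Fin k₂ → F,
    D *ᵥ (J u) = J (Sum.elim (D₁ *ᵥ (u ∘ Sum.inl)) (D₂ *ᵥ (u ∘ Sum.inr)))

theorem bf_one (J : (Fin k₁ ⊕ Fin k₂ → F) ≃ₗ[F] (ι → F)) : BF J 1 1 1 := by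
  intro u
  rw [one_mulVec, one_mulVec, one_mulVec, Sum.elim_comp_inl_inr]

theorem bf_mul {J : (Fin k₁ ⊕ Fin k₂ → F) ≃ₗ[F] (ι → F)} {D E : Matrix ι ι F}
    {D₁ E₁ : Matrix (Fin k₁) (Fin k₁) F} {D₂ E₂ : Matrix (Fin k₂) (Fin k₂) F}
    (hD : BF J D D₁ D₂) (hE : BF J E E₁ E₂) : BF J (D * E) (D₁ * E₁) (D₂ * E₂) := by
  intro u
  rw [← mulVec_mulVec, hE u, hD, Sum.elim_comp_inl, Sum.elim_comp_inr, mulVec_mulVec,
    mulVec_mulVec]

theorem bf_pow {J : (Fin k₁ ⊕ Fin k₂ → F) ≃ₗ[F] (ι → F)} {D : Matrix ι ι F}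
    {D₁ : Matrix (Fin k₁) (Fin k₁) F} {D₂ : Matrix (Fin k₂) (Fin k₂) F}
    (hD : BF J D D₁ D₂) (j : ℕ) : BF J (D ^ j) (D₁ ^ j) (D₂ ^ j) := by
  induction j with
  | zero => simpa using bf_one J
  | succ j ih => rw [pow_succ, pow_succ, pow_succ]; exact bf_mul ih hD

theorem bf_unique {J : (Fin k₁ ⊕ Fin k₂ → F) ≃ₗ[F] (ι → F)} {D : Matrix ι ι F}
    {A₁ B₁ : Matrix (Fin k₁) (Fin k₁) F} {A₂ B₂ : Matrix (Fin k₂) (Fin k₂) F}
    (hA : BF J D A₁ A₂) (hB : BF J D B₁ B₂) : A₁ = B₁ ∧ A₂ = B₂ := by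
  have key : ∀ u : Fin k₁ ⊕ Fin k₂ → F,
      (Sum.elim (A₁ *ᵥ (u ∘ Sum.inl)) (A₂ *ᵥ (u ∘ Sum.inr)) : Fin k₁ ⊕ Fin k₂ → F) =
        Sum.elim (B₁ *ᵥ (u ∘ Sum.inl)) (B₂ *ᵥ (u ∘ Sum.inr)) := by
    intro u
    apply J.injective
    rw [← hA u, ← hB u]
  constructor
  · apply matrix_ext_mulVec
    intro v
    have h0 := congrArg (fun f => f ∘ Sum.inl) (key (Sum.elim v 0))
    simpa using h0
  · apply matrix_ext_mulVec
    intro w
    have h0 := congrArg (fun f => f ∘ Sum.inr) (key (Sum.elim 0 w))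
    simpa using h0

theorem eq_one_of_bf {J : (Fin k₁ ⊕ Fin k₂ → F) ≃ₗ[F] (ι → F)} {D : Matrix ι ι F}
    (hD : BF J D 1 1) : D = 1 := by
  apply matrix_ext_mulVec
  intro x
  obtain ⟨u, rfl⟩ := J.surjective x
  rw [hD u, one_mulVec, one_mulVec, one_mulVec, Sum.elim_comp_inl_inr]

theorem main : BlockFacts.{u} := by
  intro F _ ι _ _ k₁ k₂ J D D₁ D₂ hD
  have hD' : BF J D D₁ D₂ := hD
  refine ⟨?_, ?_, ?_⟩
  · intro j
    have hj := bf_pow hD' j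
    constructor
    · intro h
      rw [h] at hj
      exact (bf_unique hj (bf_one J))
    · rintro ⟨h1, h2⟩
      rw [h1, h2] at hj
      exact eq_one_of_bf hj
  · intro E E₁ E₂ hE hc
    have hE' : BF J E E₁ E₂ := hE
    have h1 := bf_mul hD' hE'
    have h2 := bf_mul hE' hD'
    rw [hc] at h1
    exact bf_unique h1 h2
  · intro Q N₁ N₂ hQ hiso
    constructor
    · intro v
      have h0 := hiso (J (Sum.elim v 0))
      rw [hD, hQ, hQ, Sum.elim_comp_inl, Sum.elim_comp_inr, Sum.elim_comp_inl,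
        Sum.elim_comp_inr, mulVec_zero] at h0
      exact add_right_cancel h0
    · intro w
      have h0 := hiso (J (Sum.elim 0 w))
      rw [hD, hQ, hQ, Sum.elim_comp_inl, Sum.elim_comp_inr, Sum.elim_comp_inl,
        Sum.elim_comp_inr, mulVec_zero] at h0
      exact add_left_cancel h0

end Cfsg.Agent.Lib.Helper34.BCBLOCKFACTS
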