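import Mathlib
import Cfsg.Agent.Lib.Helper76.BrRBStmt

/-! # S4504 piece EXC (helper34): every nontrivial constituent of `ξ * conj ξ` satisfies `Exc`
(glue of B0X, YTWO, EX, EY, EO) -/

set_option autoImplicit false

namespace Cfsg.Agent.Lib.Helper34.BrRBEXC

open Cfsg Cfsg.Agent.Lib.Helper76 Cfsg.Agent.Lib.Helper76.BrRB
open scoped Classical

universe u

theorem main (hB0X : BrRB.B0X.{u}) (hYTWO : BrRB.YTWO.{u}) (hEX : BrRB.EX.{u})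
    (hEY : BrRB.EY.{u}) (hEO : BrRB.EO.{u}) : BrRB.EXC.{u} := by
  intro L _ _ p _ c hidx hHA ψ hnt hmlt
  have hp5 := c.hp5
  have hp2 : p ≠ 2 := by omega
  obtain ⟨X, Y, ε, ε', hX, hXY, hεX, hε', hXval, hYsum, hYreg, hYP, hout⟩ :=
    hB0X p hp2 c.P c.hP
  by_cases hψX : ψ ∈ X
  · exact hEX p c.P c.hP hp5 c.hgen (ψ : L → ℂ) ψ.2 hnt (ε ψ) (hεX ψ hψX) (hXval ψ hψX)
  by_cases hψY : ψ ∈ Y
  · have hY2 : Nat.card Y = 2 := by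
      have he := c.hdeg
      rw [hX, hidx] at hXY
      have h1 : charDegree c.ξ * Nat.card Y = charDegree c.ξ * 2 := by omega
      exact Nat.eq_of_mul_eq_mul_left (by omega) h1
    obtain ⟨η', h1, h2, h3⟩ := hYTWO p c.P Y ε'
      (fun g => ∑ᶠ ξ ∈ X, (ε ξ : ℂ) * (ξ : L → ℂ) g) hY2 hε' hYsum hYreg hYP ψ hψY
    exact hEY p c.P c.hP hp5 (ψ : L → ℂ) (η' : L → ℂ) ψ.2 η'.2 ε' hε' h1 h2 h3
  · obtain ⟨f, hf1, hf2⟩ := hEO p c.P c.hP (ψ : L → ℂ) ψ.2 (hout ψ hψX hψY)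
      (fun k hk _ => hHA ψ hmlt k hk)
    exact ⟨f, hf1, hf2.le, fun heq => absurd heq hf2.ne⟩

end Cfsg.Agent.Lib.Helper34.BrRBEXC
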