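import Mathlib

set_option autoImplicit false

namespace Cfsg.Agent.Lib.Helper34.Crit19

/-- an involution acting on a finite normal subgroup without nontrivial fixed points inverts it -/
theorem inverts_of_fixedPointFree {H : Type*} [Group H] [Finite H] (N : Subgroup H) [N.Normal]
    (e : H) (he2 : e * e = 1) (hfix : N ⊓ Subgroup.centralizer ({e} : Set H) = ⊥) :
    ∀ n ∈ N, e * n * e⁻¹ = n⁻¹ := by
  classical
  have hnorm : ∀ n ∈ N, e * n * e⁻¹ ∈ N := fun n hn => ‹N.Normal›.conj_mem n hn e
  let f : N → N := fun n => ⟨(n : H)⁻¹ * (e * n * e⁻¹), N.mul_mem (N.inv_mem n.2) (hnorm n n.2)⟩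
  have hinj : Function.Injective f := by
    intro a b hab
    have h1 : (a : H)⁻¹ * (e * a * e⁻¹) = (b : H)⁻¹ * (e * b * e⁻¹) := congrArg Subtype.val hab
    have h2 : (b : H) * (a : H)⁻¹ ∈ N ⊓ Subgroup.centralizer ({e} : Set H) := by
      refine ⟨N.mul_mem b.2 (N.inv_mem a.2), ?_⟩
      refine Subgroup.mem_centralizer_iff.mpr ?_
      intro x hx
      rw [Set.mem_singleton_iff] at hx
      subst hx
      -- need: x * (b * a⁻¹) = (b * a⁻¹) * x
      have h3 : x * (a : H) = (a : H) * ((b : H)⁻¹ * (x * b)) := by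
        have := congrArg (fun t => (a : H) * t * x) h1
        simp only [mul_assoc, inv_mul_cancel, mul_one, mul_inv_cancel_left] at this
        rw [this]
      calc x * ((b : H) * (a : H)⁻¹) = (b : H) * ((b : H)⁻¹ * (x * b)) * (a : H)⁻¹ := by group
        _ = (b : H) * ((a : H)⁻¹ * (x * a)) * (a : H)⁻¹ := by
            rw [h3]; group
        _ = (b : H) * (a : H)⁻¹ * x := by group
    rw [hfix, Subgroup.mem_bot] at h2
    have : (b : H) = a := by
      have := mul_inv_eq_one.mp h2
      exact this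
    exact Subtype.ext this.symm
  have hsurj : Function.Surjective f := Finite.injective_iff_surjective.mp hinj
  intro m hm
  obtain ⟨n, hn⟩ := hsurj ⟨m, hm⟩
  have hm' : m = (n : H)⁻¹ * (e * n * e⁻¹) := (congrArg Subtype.val hn).symm
  have he : e⁻¹ = e := inv_eq_of_mul_eq_one_left he2
  rw [hm', he]
  calc e * ((n : H)⁻¹ * (e * n * e)) * e = e * (n : H)⁻¹ * e * n * (e * e) := by group
    _ = e * (n : H)⁻¹ * e * n := by rw [he2, mul_one]
    _ = ((n : H)⁻¹ * (e * n * e))⁻¹ := by
        simp only [mul_inv_rev, he, inv_inv, mul_assoc]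

theorem crit19_core {H : Type*} [Group H] [Finite H] (z : H) (hz : orderOf z = 2)
    (hN : ∀ N : Subgroup H, N.Normal → N ≠ ⊤ → N ⊓ Subgroup.centralizer ({z} : Set H) = ⊥)
    (E : Subgroup H) (hE : IsKleinFour ↥E) (hzE : z ∈ E) (hc : ∀ e ∈ E, e ≠ 1 → IsConj z e)
    (N : Subgroup H) (hNn : N.Normal) (hNt : N ≠ ⊤) : N = ⊥ := by
  classical
  have hz1 : z ≠ 1 := by
    intro h
    rw [h, orderOf_one] at hz
    omega
  have hzz : z * z = 1 := by
    have := pow_orderOf_eq_one z
    rw [hz, pow_two] at this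
    exact this
  -- every nonidentity element of E squares to one
  have hsq : ∀ e ∈ E, e * e = 1 := by
    intro e he
    have h1 : (⟨e, he⟩ : E) ^ 2 = 1 := by
      have := Monoid.pow_exponent_eq_one (⟨e, he⟩ : E)
      rwa [hE.exponent_two] at this
    have := congrArg Subtype.val h1
    simpa [pow_two] using this
  -- fixed point freeness for every nonidentity e
  have hfix : ∀ e ∈ E, e ≠ 1 → N ⊓ Subgroup.centralizer ({e} : Set H) = ⊥ := by
    intro e he he1
    obtain ⟨c, hc'⟩ := isConj_iff.mp (hc e he he1)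
    rw [eq_bot_iff]
    intro n hn
    obtain ⟨hn1, hn2⟩ := hn
    have hne := (Subgroup.mem_centralizer_iff.mp hn2) e (Set.mem_singleton e)
    have h1 : c⁻¹ * n * c ∈ N ⊓ Subgroup.centralizer ({z} : Set H) := by
      refine ⟨?_, ?_⟩
      · have := hNn.conj_mem n hn1 c⁻¹
        simpa using this
      · refine Subgroup.mem_centralizer_iff.mpr ?_
        intro x hx
        rw [Set.mem_singleton_iff] at hx
        subst hx
        have hx : x = c⁻¹ * e * c := by rw [← hc']; group
        rw [hx]
        calc c⁻¹ * e * c * (c⁻¹ * n * c) = c⁻¹ * (e * n) * c := by group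
          _ = c⁻¹ * (n * e) * c := by rw [hne]
          _ = c⁻¹ * n * c * (c⁻¹ * e * c) := by group
    rw [hN N hNn hNt, Subgroup.mem_bot] at h1
    rw [Subgroup.mem_bot]
    have : n = c * (c⁻¹ * n * c) * c⁻¹ := by group
    rw [this, h1]; group
  -- find a second involution
  have hex : ∃ b : H, b ∈ E ∧ b ≠ 1 ∧ b ≠ z := by
    by_contra hcon
    push Not at hcon
    have hcard : Nat.card E = 4 := hE.card_four
    letI : Fintype E := Fintype.ofFinite E
    rw [Nat.card_eq_fintype_card] at hcard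
    have hsub : (Finset.univ : Finset E) ⊆ {1, ⟨z, hzE⟩} := by
      intro x _
      by_cases hx : (x : H) = 1
      · simp only [Finset.mem_insert, Finset.mem_singleton]
        left; exact Subtype.ext hx
      · simp only [Finset.mem_insert, Finset.mem_singleton]
        right; exact Subtype.ext (hcon x x.2 hx)
    have := Finset.card_le_card hsub
    have h2 : ({1, ⟨z, hzE⟩} : Finset E).card ≤ 2 := Finset.card_insert_le _ _
    rw [Finset.card_univ] at this
    omega
  obtain ⟨b, hbE, hb1, hbz⟩ := hex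
  have hzb : z * b ≠ 1 := by
    intro h
    apply hbz
    have : b = z⁻¹ := eq_inv_of_mul_eq_one_right h
    rw [this]
    exact inv_eq_of_mul_eq_one_left hzz
  haveI := hNn
  have hinvz := inverts_of_fixedPointFree N z hzz (hfix z hzE hz1)
  have hinvb := inverts_of_fixedPointFree N b (hsq b hbE) (hfix b hbE hb1)
  rw [eq_bot_iff]
  intro n hn
  have hmem : n ∈ N ⊓ Subgroup.centralizer ({z * b} : Set H) := by
    refine ⟨hn, ?_⟩
    refine Subgroup.mem_centralizer_iff.mpr ?_
    intro x hx
    rw [Set.mem_singleton_iff] at hx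
    subst hx
    have h1 : b * n * b⁻¹ = n⁻¹ := hinvb n hn
    have h2 : z * n⁻¹ * z⁻¹ = n⁻¹⁻¹ := hinvz n⁻¹ (N.inv_mem hn)
    have h3 : z * b * n * (z * b)⁻¹ = n := by
      calc z * b * n * (z * b)⁻¹ = z * (b * n * b⁻¹) * z⁻¹ := by group
        _ = n := by rw [h1, h2, inv_inv]
    calc z * b * n = z * b * n * (z * b)⁻¹ * (z * b) := by group
      _ = n * (z * b) := by rw [h3]
  rw [hfix (z * b) (E.mul_mem hzE hbE) hzb] at hmem
  exact hmem

end Cfsg.Agent.Lib.Helper34.Crit19
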