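import Mathlib
import Cfsg.Agent.Lib.Helper32.D8Stmt

/-!
# S3716 piece ALG2 (call by helper32): pure algebra over `ℂ`
-/

set_option autoImplicit false

namespace Cfsg.Agent.Lib.Helper34.D8ALG2

open Cfsg.Agent.Lib.Helper32

/-- an integer relation impossible modulo `9` -/
theorem no81 (mX mU : ℤ) (hmX : mX % 9 = 2) (hmU : mU % 9 = 1)
    (h : 81 * mX * (mU - 1) = 64 * mU * (1 + mX)) : False := by
  obtain ⟨a, rfl⟩ : ∃ a, mX = 9 * a + 2 := ⟨mX / 9, by omega⟩
  obtain ⟨b, rfl⟩ : ∃ b, mU = 9 * b + 1 := ⟨mU / 9, by omega⟩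
  have h9 : (9 : ℤ) ∣ 192 := ⟨153 * (a * b) - 30 * b - 64 * a, by linear_combination (-1 : ℤ) * h⟩
  omega

/-- an integer relation impossible modulo `9` -/
theorem no1617 (mX mU : ℤ) (hmX : mX % 9 = 2) (hmU : mU % 9 = 1)
    (h : 1617 * mX * (mU - 1) = 1600 * mU * (1 + mX)) : False := by
  obtain ⟨a, rfl⟩ : ∃ a, mX = 9 * a + 2 := ⟨mX / 9, by omega⟩
  obtain ⟨b, rfl⟩ : ∃ b, mU = 9 * b + 1 := ⟨mU / 9, by omega⟩
  have h9 : (9 : ℤ) ∣ 4800 :=
    ⟨153 * (a * b) - 1566 * b - 1600 * a, by linear_combination (-1 : ℤ) * h⟩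
  omega

theorem main : D8Stmt.ALG2 := by
  intro px py ux uy n mX mU hn hmX hmU h1 h2 h3 h4 h5 h6
  have hA0 : (mX : ℂ) ≠ 0 := by
    intro h
    have : mX = 0 := by exact_mod_cast h
    omega
  have hB0 : (mU : ℂ) ≠ 0 := by
    intro h
    have : mU = 0 := by exact_mod_cast h
    omega
  suffices hB1 : (mU : ℂ) = 1 by exact_mod_cast hB1
  obtain ⟨A, hA⟩ : ∃ A : ℂ, A = (mX : ℂ) := ⟨_, rfl⟩
  obtain ⟨B, hB⟩ : ∃ B : ℂ, B = (mU : ℂ) := ⟨_, rfl⟩
  rw [← hA] at h1 h2 h3 h4 hA0
  rw [← hB] at h3 h4 h5 h6 hB0 ⊢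
  have s1 : (5 * ux - 13 * uy) * (ux - uy) = 0 := by
    have h : B * n * ((5 * ux - 13 * uy) * (ux - uy)) = 0 := by linear_combination 4 * h5 + h6
    rcases mul_eq_zero.1 h with h | h
    · exact absurd h (mul_ne_zero hB0 hn)
    · exact h
  have s2 : (7 * px - 20 * py) * (px - 4 * py) = 0 := by
    have h : A * n * ((7 * px - 20 * py) * (px - 4 * py)) = 0 := by linear_combination 8 * h2 - h1
    rcases mul_eq_zero.1 h with h | h
    · exact absurd h (mul_ne_zero hA0 hn)
    · exact h
  have s3 : ((ux - px) + 2 * (uy - py)) * ((ux - px) + 10 * (uy - py)) = 0 := by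
    have h : A * B * n * (((ux - px) + 2 * (uy - py)) * ((ux - px) + 10 * (uy - py))) = 0 := by
      linear_combination 2 * h4 - h3
    rcases mul_eq_zero.1 h with h | h
    · exact absurd h (mul_ne_zero (mul_ne_zero hA0 hB0) hn)
    · exact h
  have fin : A * (B - 1) = 0 → B = 1 := by
    intro h
    rcases mul_eq_zero.1 h with h | h
    · exact absurd h hA0
    · exact sub_eq_zero.1 h
  rcases mul_eq_zero.1 s1 with c1 | c1
  swap
  · have hux : ux = uy := by linear_combination c1
    subst hux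
    linear_combination (1 / 2 : ℂ) * h5
  have hux : ux = 13 / 5 * uy := by linear_combination (1 / 5 : ℂ) * c1
  subst hux
  have hBZ : B * (uy ^ 2 * n) = 25 / 48 * (B - 1) := by linear_combination (-25 / 96 : ℂ) * h5
  rcases mul_eq_zero.1 s2 with c2 | c2 <;> rcases mul_eq_zero.1 s3 with c3 | c3
  · -- (b1)
    have hpx : px = 20 / 7 * py := by linear_combination (1 / 7 : ℂ) * c2
    subst hpx
    have hpy : py = 161 / 170 * uy := by linear_combination (-7 / 34 : ℂ) * c3
    subst hpy
    have e2 : 52371 / 28900 * (A * (uy ^ 2 * n)) = 1 + A := by linear_combination h2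
    have e4 : 243 / 28900 * (A * B * (uy ^ 2 * n)) = A + B := by linear_combination h4
    have E1 : 52371 / 28900 * A * (25 / 48 * (B - 1)) = B * (1 + A) := by
      linear_combination B * e2 - 52371 / 28900 * A * hBZ
    have E2 : 243 / 28900 * A * (25 / 48 * (B - 1)) = A + B := by
      linear_combination e4 - 243 / 28900 * A * hBZ
    exact fin (by linear_combination (578 / 35 : ℂ) * E2 - (578 / 35 : ℂ) * E1)
  · -- (b2)
    have hpx : px = 20 / 7 * py := by linear_combination (1 / 7 : ℂ) * c2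
    subst hpx
    have hpy : py = 49 / 50 * uy := by linear_combination (-7 / 90 : ℂ) * c3
    subst hpy
    have e2 : 4851 / 2500 * (A * (uy ^ 2 * n)) = 1 + A := by linear_combination h2
    have E1 : 4851 / 2500 * A * (25 / 48 * (B - 1)) = B * (1 + A) := by
      linear_combination B * e2 - 4851 / 2500 * A * hBZ
    have hE : 1617 * A * (B - 1) = 1600 * B * (1 + A) := by linear_combination 1600 * E1
    rw [hA, hB] at hE
    have hEZ : 1617 * mX * (mU - 1) = 1600 * mU * (1 + mX) := by exact_mod_cast hE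
    exact (no1617 mX mU hmX hmU hEZ).elim
  · -- (a1)
    have hpx : px = 4 * py := by linear_combination c2
    subst hpx
    have hpy : py = 23 / 30 * uy := by linear_combination (-1 / 6 : ℂ) * c3
    subst hpy
    have e2 : 529 / 300 * (A * (uy ^ 2 * n)) = 1 + A := by linear_combination h2
    have e4 : 49 / 300 * (A * B * (uy ^ 2 * n)) = A + B := by linear_combination h4
    have E1 : 529 / 300 * A * (25 / 48 * (B - 1)) = B * (1 + A) := by
      linear_combination B * e2 - 529 / 300 * A * hBZ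
    have E2 : 49 / 300 * A * (25 / 48 * (B - 1)) = A + B := by
      linear_combination e4 - 49 / 300 * A * hBZ
    exact fin (by linear_combination (6 : ℂ) * E2 - (6 : ℂ) * E1)
  · -- (a2)
    have hpx : px = 4 * py := by linear_combination c2
    subst hpx
    have hpy : py = 9 / 10 * uy := by linear_combination (-1 / 14 : ℂ) * c3
    subst hpy
    have e2 : 243 / 100 * (A * (uy ^ 2 * n)) = 1 + A := by linear_combination h2
    have E1 : 243 / 100 * A * (25 / 48 * (B - 1)) = B * (1 + A) := by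
      linear_combination B * e2 - 243 / 100 * A * hBZ
    have hE : 81 * A * (B - 1) = 64 * B * (1 + A) := by linear_combination 64 * E1
    rw [hA, hB] at hE
    have hEZ : 81 * mX * (mU - 1) = 64 * mU * (1 + mX) := by exact_mod_cast hE
    exact (no81 mX mU hmX hmU hEZ).elim

end Cfsg.Agent.Lib.Helper34.D8ALG2
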