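import Mathlib
import Cfsg.Agent.Lib.Helper32.D8Stmt

/-!
# S3716 piece LOCza (call by helper32)

The local pair sum `lsum N H φ c d` is symmetric in `(c, d)` when `d ∈ N`
(`u₁ * u₂ = u₂ * (u₂⁻¹ * u₁ * u₂)` and `N`-classes are stable under `N`-conjugation), so LOCza
follows from LOCaz.
-/

set_option autoImplicit false

universe u

namespace Cfsg.Agent.Lib.Helper34.D8LOCza

open Cfsg.Agent.Lib.Helper32

theorem mem_ncl {G : Type u} [Group G] [Fintype G] (N : Subgroup G) (c v : G) :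
    v ∈ D8Stmt.ncl N c ↔ ∃ n ∈ N, v = n * c * n⁻¹ := by
  unfold D8Stmt.ncl
  simp

/-- the local pair sum is symmetric -/
theorem lsum_symm {G : Type u} [Group G] [Fintype G] (N H : Subgroup G) (φ : H → ℂ) (c d : G)
    (hd : d ∈ N) : D8Stmt.lsum N H φ c d = D8Stmt.lsum N H φ d c := by
  unfold D8Stmt.lsum
  rw [Finset.sum_comm]
  refine Finset.sum_congr rfl fun u₂ hu₂ => ?_
  obtain ⟨n, hn, rfl⟩ := (mem_ncl N d u₂).1 hu₂
  have hu₂N : n * d * n⁻¹ ∈ N := N.mul_mem (N.mul_mem hn hd) (N.inv_mem hn)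
  refine Finset.sum_nbij' (fun u => (n * d * n⁻¹)⁻¹ * u * (n * d * n⁻¹))
    (fun u => (n * d * n⁻¹) * u * (n * d * n⁻¹)⁻¹) ?_ ?_ ?_ ?_ ?_
  · intro u hu
    obtain ⟨m, hm, rfl⟩ := (mem_ncl N c u).1 hu
    exact (mem_ncl N c _).2 ⟨(n * d * n⁻¹)⁻¹ * m, N.mul_mem (N.inv_mem hu₂N) hm, by group⟩
  · intro u hu
    obtain ⟨m, hm, rfl⟩ := (mem_ncl N c u).1 hu
    exact (mem_ncl N c _).2 ⟨(n * d * n⁻¹) * m, N.mul_mem hu₂N hm, by group⟩
  · intro u _
    group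
  · intro u _
    group
  · intro u _
    congr 1
    group

/-- [LOCza] from LOCaz. -/
theorem main (hAZ : D8Stmt.LOCaz.{u}) : D8Stmt.LOCza.{u} := by
  intro G _ _ T N x y a b w hC f g hO
  obtain ⟨h1, h2⟩ := hAZ hC f g hO
  refine ⟨?_, ?_⟩
  · rw [lsum_symm N _ _ (a * b) a hC.aN]
    exact h1
  · rw [lsum_symm N _ _ (a * b) a hC.aN]
    exact h2

end Cfsg.Agent.Lib.Helper34.D8LOCza
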