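import Mathlib
import Cfsg.Agent.Lib.Helper74.DixStmt
import Cfsg.Agent.Lib.CT.Ops

/-!
# S4472 piece EXTSUB (call of helper74): transport of ExtProp to a subgroup `T ≥ K`

Apply `ExtProp` to the group `↥T` with `K.subgroupOf T` and `θ ∘ subgroupOfEquivOfLe`.
-/

set_option autoImplicit false

universe u

namespace Cfsg.Agent.Lib.Helper34.DixEXTSUB

open Cfsg Cfsg.Agent.Lib.Helper74.DixStmt

theorem main (hE : ExtProp.{u}) : ExtSub.{u} := by
  intro L _ _ p _ K hK hcop hidx T hKT θ hθ hinv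
  let e : K.subgroupOf T ≃* K := Subgroup.subgroupOfEquivOfLe hKT
  have hcard : Nat.card (K.subgroupOf T) = Nat.card K := Nat.card_congr e.toEquiv
  have hcop' : (Nat.card (K.subgroupOf T)).Coprime p := by
    rw [hcard]
    exact hcop
  have hp : p.Prime := Fact.out
  have hidx' : ∃ m' : ℕ, (K.subgroupOf T).index = p ^ m' := by
    obtain ⟨m, hm⟩ := hidx
    have h1 : K.relIndex T * T.index = K.index := Subgroup.relIndex_mul_index hKT
    have h2 : K.relIndex T ∣ p ^ m := by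
      rw [← hm, ← h1]
      exact dvd_mul_right _ _
    obtain ⟨m', -, hm'⟩ := (Nat.dvd_prime_pow hp).1 h2
    exact ⟨m', hm'⟩
  have hθ' : IsIrrCharacter (K.subgroupOf T) (fun x => θ (e x)) :=
    Cfsg.Agent.Lib.CT.Ops.isIrrCharacter_comp_mulEquiv e hθ
  have hK' : (K.subgroupOf T).Normal := inferInstance
  have hinv' : ∀ (g : T) (k : K.subgroupOf T),
      (fun x => θ (e x)) ⟨g * k * g⁻¹, hK'.conj_mem k k.2 g⟩ = (fun x => θ (e x)) k := by
    intro g k
    have h := hinv g.1 g.2 (e k)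
    show θ (e ⟨g * k * g⁻¹, _⟩) = θ (e k)
    rw [← h]
    congr 1
  obtain ⟨ψ, hψ, hψθ, hψc⟩ := hE p (K.subgroupOf T) hcop' hidx' (fun x => θ (e x)) hθ' hinv'
  refine ⟨ψ, hψ, ?_, ?_⟩
  · intro k
    have h := hψθ (e.symm k)
    simp only [MulEquiv.apply_symm_apply] at h
    exact h
  · intro t
    rw [← hcard]
    exact hψc t

end Cfsg.Agent.Lib.Helper34.DixEXTSUB
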