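import Mathlib
import Cfsg.Agent.Lib.Helper41.TMStmt
import Cfsg.Agent.Lib.Helper41.EMStmt

/-!
# S5990 piece B2E (call by helper41): minus form, odd `r ≠ p`, all `q`

The element with `(2d) / c` blocks fixes no elliptic `m`-space if `AEM` holds and `CondEM` fails.
`core`: the element and what an invariant elliptic `m`-space would force; `main`: the arithmetic.

`x` from `TMStmt.EltDim` with `b` blocks, `dim Fix x = k = 2d - b c < c`.  For an invariant
nondegenerate `W` of dimension `m` (even) that is not of plus type, with the dimension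
obstruction `c ∣ dim W - dim (W ⊓ Fix x)`:
* `m % c = dim (W ⊓ Fix x) ≤ k`;
* `m % c = 0`: `W` has no fixed vectors, so `i` is even (`HalfOdd`) and `m / i` is odd
  (`TypeEven`);
* `m % c = k`: `Fix x ≤ W`, `Y = W^⊥` (`Perp`) is invariant without fixed vectors and of plus type
  (`TwoMinusG`), so `i` is odd or `(2d - m) / i` is even (`TypeEven`).
-/

set_option autoImplicit false

namespace Cfsg.Agent.Lib.Helper34.EMB2E

open Cfsg.Agent.Lib.Helper37.HypStmt (cc IPos)
open Cfsg.Agent.Lib.Helper45.OMiStmt (M Aniso FxM NDegM StabM mem_FxM)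
open Cfsg.Agent.Lib.Helper41.TMTwoStmt (TSubM PlusM)
open Cfsg.Agent.Lib.Helper41.TMStmt
open scoped Matrix

universe u

theorem cc_pos {i : ℕ} (h : 0 < i) : 0 < cc i := by
  unfold cc
  split_ifs <;> omega

theorem cc_of_even {i : ℕ} (h : Even i) : cc i = i := if_pos h

theorem card_M (d : ℕ) (hd : 1 ≤ d) : Fintype.card (M d) = 2 * d := by
  simp [M]
  omega

theorem mem_iso_of_mem_omega {F : Type u} [Field F] {d : ℕ} (a b : F)
    (x : Matrix.GeneralLinearGroup (M d) F)
    (hx : x ∈ Cfsg.Geo.omegaGL (Cfsg.quadFormMinus (d - 1) F a b)) :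
    x ∈ Cfsg.isometryGroup F (Cfsg.quadFormMinus (d - 1) F a b) := by
  unfold Cfsg.Geo.omegaGL at hx
  obtain ⟨y, -, hy⟩ := Subgroup.mem_map.1 hx
  rw [← hy]
  exact y.2

/-- the core: the element with `b` blocks and the constraints on an invariant elliptic space -/
theorem core (hIPos : IPos.{u}) (hElt : EltDim.{u}) (hDim : Cfsg.Agent.Lib.Helper41.EMStmt.DimObsA.{u}) (hHalf : HalfOdd.{u})
    (hTE : TypeEven.{u}) (hTwo : TwoMinusG.{u}) (hPerp : Perp.{u})
    (F : Type u) [Field F] [Fintype F] (a₀ b₀ : F) (hAn : Aniso a₀ b₀) (p : ℕ) [Fact p.Prime]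
    [CharP F p] (d m : ℕ) (hd : 3 ≤ d) (hme : Even m) (hmd : m < 2 * d)
    (r : ℕ) [Fact r.Prime] (hr2 : r ≠ 2) (hrp : r ≠ p)
    (i c b k : ℕ) (hidef : i = orderOf ((Fintype.card F : ℕ) : ZMod r)) (hc : c = cc i)
    (hb1 : 1 ≤ b) (hdm : c * b + k = 2 * d) (hklt : k < c)
    (htype : k = 0 → Even i ∧ Odd b) :
    ∃ x : Matrix.GeneralLinearGroup (M d) F,
      x ∈ Cfsg.Geo.omegaGL (Cfsg.quadFormMinus (d - 1) F a₀ b₀) ∧ orderOf x = r ∧
      ∀ W : Submodule F (M d → F), Module.finrank F ↥W = m → NDegM d F a₀ b₀ W →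
        ¬ PlusM d F a₀ b₀ W → StabM (x : Matrix (M d) (M d) F) W →
        m % c ≤ k ∧ (m % c = 0 → Even i ∧ Odd (m / i)) ∧
          (m % c = k → Odd i ∨ Even ((2 * d - m) / i)) := by
  have hi : 0 < i := by
    rw [hidef]
    exact hIPos F p r hrp
  have hcpos : 0 < c := by
    rw [hc]
    exact cc_pos hi
  have hbc : b * c = c * b := Nat.mul_comm b c
  obtain ⟨x, hxO, hxr, hxF⟩ := hElt F a₀ b₀ hAn p d hd r hr2 hrp b hb1
    (by rw [← hidef, ← hc]; omega)
    (by
      rw [← hidef, ← hc]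
      intro h
      exact htype (by omega))
  rw [← hidef, ← hc] at hxF
  have hxF' : Module.finrank F ↥(FxM (x : Matrix (M d) (M d) F)) = k := by
    have h : Module.finrank F ↥(FxM (x : Matrix (M d) (M d) F)) = 2 * d - b * c := hxF
    omega
  have hx1 : x ≠ 1 := by
    intro h
    rw [h] at hxF'
    have h3 : FxM ((1 : Matrix.GeneralLinearGroup (M d) F) : Matrix (M d) (M d) F) = ⊤ := by
      rw [eq_top_iff]
      intro v _
      rw [mem_FxM]
      simp
    rw [h3, finrank_top, Module.finrank_fintype_fun_eq_card, card_M d (by omega)] at hxF'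
    have h4 : c ≤ c * b := Nat.le_mul_of_pos_right c hb1
    omega
  refine ⟨x, hxO, orderOf_eq_prime hxr hx1, ?_⟩
  intro W hWm hWN hWnp hWst
  have hxI := mem_iso_of_mem_omega a₀ b₀ x hxO
  have hdvd := hDim F a₀ b₀ hAn p d r hr2 hrp x hxI hxr W hWst hWN
  rw [← hidef, ← hc] at hdvd
  have hf1 : Module.finrank F ↥(W ⊓ FxM (x : Matrix (M d) (M d) F)) ≤ Module.finrank F ↥W :=
    Submodule.finrank_mono inf_le_left
  have hf2 : Module.finrank F ↥(W ⊓ FxM (x : Matrix (M d) (M d) F)) ≤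
      Module.finrank F ↥(FxM (x : Matrix (M d) (M d) F)) :=
    Submodule.finrank_mono inf_le_right
  rw [hWm] at hdvd hf1
  rw [hxF'] at hf2
  obtain ⟨f, hf⟩ : ∃ f, f = Module.finrank F ↥(W ⊓ FxM (x : Matrix (M d) (M d) F)) :=
    ⟨_, rfl⟩
  rw [← hf] at hdvd hf1 hf2
  obtain ⟨t, ht⟩ := hdvd
  have hmt : m = f + c * t := by omega
  have hmod : m % c = f := by
    have h2 : (f + c * t) % c = f := by
      rw [Nat.add_mul_mod_self_left, Nat.mod_eq_of_lt (by omega)]
    rw [← hmt] at h2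
    exact h2
  rw [hmod]
  refine ⟨hf2, ?_, ?_⟩
  · intro hf0
    have hW0 : W ⊓ FxM (x : Matrix (M d) (M d) F) = ⊥ := by
      apply Submodule.finrank_eq_zero.1
      rw [← hf, hf0]
    rcases Nat.even_or_odd i with hie | hio
    · have hT := hTE F a₀ b₀ hAn p d r hr2 hrp (by rw [← hidef]; exact hie) x hxI hxr W hWst
        hWN hW0
      rw [← hidef, hWm] at hT
      refine ⟨hie, ?_⟩
      rcases Nat.even_or_odd (m / i) with he | ho
      · exact absurd (hT.2 he) hWnp
      · exact ho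
    · obtain ⟨U, hUW, -, hUts, hUdim⟩ :=
        hHalf F a₀ b₀ hAn p d r hr2 hrp (by rw [← hidef]; exact hio) x hxI hxr W hWst hWN hW0
      exact absurd ⟨U, hUW, hUts, hUdim⟩ hWnp
  · intro hfk
    have hFxW : FxM (x : Matrix (M d) (M d) F) ≤ W := by
      have heq : W ⊓ FxM (x : Matrix (M d) (M d) F) = FxM (x : Matrix (M d) (M d) F) :=
        Submodule.eq_of_le_of_finrank_eq inf_le_right (by rw [← hf, hxF', hfk])
      rw [← heq]
      exact inf_le_left
    obtain ⟨Y, hWY, hYN, hWYbot, hWYdim, hYst⟩ := hPerp F a₀ b₀ hAn d (by omega) W hWN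
    have hYst' := hYst x hxI hWst
    have hY0 : Y ⊓ FxM (x : Matrix (M d) (M d) F) = ⊥ := by
      rw [eq_bot_iff, ← hWYbot]
      exact le_inf (inf_le_right.trans hFxW) inf_le_left
    have hYdim : Module.finrank F ↥Y = 2 * d - m := by
      have h : Module.finrank F ↥W + Module.finrank F ↥Y = 2 * d := hWYdim
      omega
    have htop : W ⊔ Y = ⊤ := by
      apply Submodule.eq_top_of_finrank_eq
      have h1 := Submodule.finrank_sup_add_finrank_inf_eq W Y
      have h0 : W ⊓ Y = ⊥ := hWYbot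
      rw [h0, finrank_bot, add_zero] at h1
      rw [h1, Module.finrank_fintype_fun_eq_card, card_M d (by omega)]
      exact hWYdim
    have hY : PlusM d F a₀ b₀ Y := by
      rcases hTwo F a₀ b₀ hAn d (by omega) W Y hWN hYN hWY htop (by rw [hWm]; exact hme) with h | h
      · exact absurd h hWnp
      · exact h
    rcases Nat.even_or_odd i with hie | hio
    · have hT := hTE F a₀ b₀ hAn p d r hr2 hrp (by rw [← hidef]; exact hie) x hxI hxr Y hYst'
        hYN hY0
      rw [← hidef, hYdim] at hT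
      exact Or.inr (hT.1 hY)
    · exact Or.inl hio



/-- [B2E] -/
theorem main (hIPos : IPos.{u}) (hElt : EltDim.{u})
    (hDim : Cfsg.Agent.Lib.Helper41.EMStmt.DimObsA.{u}) (hHalf : HalfOdd.{u})
    (hTE : TypeEven.{u}) (hTwo : TwoMinusG.{u}) (hPerp : Perp.{u}) :
    Cfsg.Agent.Lib.Helper41.EMStmt.B2E.{u} := by
  intro F _ _ a₀ b₀ hAn p _ _ d m hd hm hme hmd r _ hr2 hrp hAE hnC
  have hi : 0 < orderOf ((Fintype.card F : ℕ) : ZMod r) := hIPos F p r hrp
  obtain ⟨i, hidef⟩ : ∃ i, i = orderOf ((Fintype.card F : ℕ) : ZMod r) := ⟨_, rfl⟩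
  rw [← hidef] at hi hAE hnC
  have hAE' : cc i ≤ 2 * d ∧ (cc i ≤ m ∨ (2 * d) % cc i < m ∨
      ((2 * d) % cc i = m ∧ Even i ∧ Odd ((2 * d) / cc i))) := hAE
  have hnC' : ¬ ((Odd i ∧ ((2 * d) % cc i = 0 ∨
        (cc i ≤ m ∧ 0 < m % cc i ∧ m % cc i ≤ (2 * d) % cc i))) ∨
      (Even i ∧ (((2 * d) % cc i = 0 ∧ (Even ((2 * d) / i) ∨ (m % cc i = 0 ∧ Odd (m / i)))) ∨
        (0 < (2 * d) % cc i ∧ i ≤ m ∧ ((0 < m % cc i ∧ m % cc i < (2 * d) % cc i) ∨
          (m % cc i = 0 ∧ Odd (m / i)) ∨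
          (m % cc i = (2 * d) % cc i ∧
            Even ((2 * d + m - 2 * ((2 * d) % cc i)) / i))))))) := hnC
  have hcpos := cc_pos hi
  obtain ⟨hcn, hAE2⟩ := hAE'
  obtain ⟨c, hc⟩ : ∃ c, c = cc i := ⟨_, rfl⟩
  rw [← hc] at hcpos hcn hAE2 hnC'
  obtain ⟨b, hb⟩ : ∃ b, b = (2 * d) / c := ⟨_, rfl⟩
  obtain ⟨k, hk⟩ : ∃ k, k = (2 * d) % c := ⟨_, rfl⟩
  rw [← hk] at hAE2 hnC'
  rw [← hb] at hAE2
  have hdm : c * b + k = 2 * d := by
    rw [hb, hk]
    exact Nat.div_add_mod _ _
  have hklt : k < c := by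
    rw [hk]
    exact Nat.mod_lt _ hcpos
  have hb1 : 1 ≤ b := by
    rw [hb]
    exact Nat.div_pos hcn hcpos
  have hci : Even i → c = i := fun h => by rw [hc]; exact cc_of_even h
  have htype : k = 0 → Even i ∧ Odd b := by
    intro hk0
    rcases Nat.even_or_odd i with hie | hio
    · refine ⟨hie, ?_⟩
      rcases Nat.even_or_odd b with hbe | hbo
      · exfalso
        have hbi : (2 * d) / i = b := by rw [hb, hci hie]
        exact hnC' (Or.inr ⟨hie, Or.inl ⟨hk0, Or.inl (by rw [hbi]; exact hbe)⟩⟩)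
      · exact hbo
    · exact absurd (Or.inl ⟨hio, Or.inl hk0⟩) hnC'
  obtain ⟨x, hxO, hxr, hxW⟩ := core hIPos hElt hDim hHalf hTE hTwo hPerp F a₀ b₀ hAn p d m
    (by omega) hme (by omega) r hr2 hrp i c b k hidef hc hb1 hdm hklt htype
  refine ⟨x, hxO, hxr, ?_⟩
  intro W hWmem hWst
  obtain ⟨hWm, hWN, hWnp⟩ := hWmem
  obtain ⟨hfk, hA, hB⟩ := hxW W hWm hWN hWnp hWst
  obtain ⟨f, hf⟩ : ∃ f, f = m % c := ⟨_, rfl⟩
  obtain ⟨t, ht⟩ : ∃ t, t = m / c := ⟨_, rfl⟩
  rw [← hf] at hfk hA hB hnC'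
  have hmt : c * t + f = m := by
    rw [ht, hf]
    exact Nat.div_add_mod _ _
  have hflt : f < c := by
    rw [hf]
    exact Nat.mod_lt _ hcpos
  have htc : 0 < t → c ≤ c * t := fun h => Nat.le_mul_of_pos_right c h
  have ht0 : ¬ c ≤ m → f = m := by
    intro hcm
    rcases Nat.eq_zero_or_pos t with h | h
    · rw [h, Nat.mul_zero, Nat.zero_add] at hmt
      exact hmt
    · have := htc h
      omega
  rcases Nat.even_or_odd i with hie | hio
  · have hcieq := hci hie
    rcases Nat.eq_zero_or_pos f with hf0 | hfpos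
    · obtain ⟨-, hodd⟩ := hA hf0
      have hcm : c ≤ m := by
        by_contra hcm
        have := ht0 hcm
        omega
      apply hnC'
      by_cases hk0 : k = 0
      · exact Or.inr ⟨hie, Or.inl ⟨hk0, Or.inr ⟨hf0, hodd⟩⟩⟩
      · exact Or.inr ⟨hie, Or.inr ⟨by omega, by omega, Or.inr (Or.inl ⟨hf0, hodd⟩)⟩⟩
    · by_cases hfk2 : f < k
      · by_cases hcm : c ≤ m
        · exact hnC' (Or.inr ⟨hie, Or.inr ⟨by omega, by omega, Or.inl ⟨hfpos, hfk2⟩⟩⟩)
        · have hfm := ht0 hcm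
          rcases hAE2 with h | h | h <;> omega
      · have hfk' : f = k := by omega
        have hev : Even ((2 * d - m) / i) := by
          rcases hB hfk' with h | h
          · exact absurd hie (Nat.not_even_iff_odd.2 h)
          · exact h
        have htb : t ≤ b := by
          have h : c * t ≤ c * b := by omega
          exact Nat.le_of_mul_le_mul_left h hcpos
        have e1 : 2 * d - m = c * (b - t) := by
          rw [Nat.mul_sub]
          omega
        have hq1 : (2 * d - m) / i = b - t := by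
          rw [e1, ← hcieq, Nat.mul_div_cancel_left _ hcpos]
        rw [hq1] at hev
        obtain ⟨s, hs⟩ := hev
        by_cases hcm : c ≤ m
        · have e2 : 2 * d + m - 2 * k = c * (b + t) := by
            rw [Nat.mul_add]
            omega
          have hq2 : (2 * d + m - 2 * k) / i = b + t := by
            rw [e2, ← hcieq, Nat.mul_div_cancel_left _ hcpos]
          apply hnC'
          refine Or.inr ⟨hie, Or.inr ⟨by omega, by omega, Or.inr (Or.inr ⟨hfk', ?_⟩)⟩⟩
          rw [hq2]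
          exact ⟨s + t, by omega⟩
        · have hfm := ht0 hcm
          have htz : t = 0 := by
            rcases Nat.eq_zero_or_pos t with h | h
            · exact h
            · have := htc h
              omega
          have hbev : Even b := ⟨s, by omega⟩
          rcases hAE2 with h | h | h
          · omega
          · omega
          · exact absurd hbev (Nat.not_even_iff_odd.2 h.2.2)
  · have hfpos : 0 < f := by
      rcases Nat.eq_zero_or_pos f with h | h
      · exact absurd hio (Nat.not_odd_iff_even.2 (hA h).1)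
      · exact h
    by_cases hcm : c ≤ m
    · exact hnC' (Or.inl ⟨hio, Or.inr ⟨hcm, hfpos, hfk⟩⟩)
    · have hfm := ht0 hcm
      rcases hAE2 with h | h | h
      · omega
      · omega
      · exact absurd hio (Nat.not_odd_iff_even.2 h.2.1)

end Cfsg.Agent.Lib.Helper34.EMB2E
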