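import Mathlib
import Cfsg.Agent.Lib.Helper88.FCStmt
import Cfsg.Agent.Lib.Helper87.PCStmt
import Cfsg.Agent.S5097

/-! Piece CCRIT of S5293: a subgroup `X` of `C_S(T)` centralizes `E` as soon as every map of `E`
with `E`-centric source extends to a map of `F` fixing `X` elementwise. -/

set_option autoImplicit false

namespace Cfsg.Agent.Lib.Helper34.FCCCRIT

open Cfsg Cfsg.FusionSystem Cfsg.Agent.H85 Cfsg.Agent.Lib.Helper88.FCStmt

universe u

theorem main (h : CentGen.{u}) : CentCrit.{u} := by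
  intro Ω _ S _ p _ hS F hF T E hE X hX hyp
  have hEF : E.IsSubsystemOf F := hE.1.2.2.1
  have hTS : T ≤ S := hE.1.2.2.2.1.1
  have hXS : X ≤ S := fun x hx => (hX hx).1
  obtain ⟨CX, hCX⟩ := Cfsg.Agent.S5097.result F X hXS
  have hTC : T ≤ centralizerIn S X := by
    intro t ht
    refine ⟨hTS ht, ?_⟩
    show t ∈ Subgroup.centralizer (X : Set Ω)
    rw [Subgroup.mem_centralizer_iff]
    intro x hx
    exact ((hX hx).2 t ht).symm
  have hfinT : Finite T := finite_of_le hTS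
  have hpT : IsPGroup p T := hS.to_le hTS
  have hgen := h p hpT E hE.1.1 (Cfsg.Agent.Lib.Helper87.PCStmt.mixSys E CX hTC) (by
    intro P hP φ hφ
    refine ⟨hφ, ?_⟩
    rw [hCX P]
    have hPT : P ≤ T := hP.1
    obtain ⟨ψ, hψ, hψ1, hψ2⟩ := hyp P hP φ hφ
    exact ⟨hEF P hφ, hPT.trans hTC, fun x => hTC ((E.le_of_mem hφ).2 x), ψ, hψ, hψ1, hψ2⟩)
  intro P φ hφ
  have h2 := (hgen P hφ).2
  rw [hCX P] at h2
  exact h2

end Cfsg.Agent.Lib.Helper34.FCCCRIT
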