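import Mathlib
import Cfsg.Prelude.Def_FusionSystem
import Cfsg.Prelude.Def_FusionComponents
import Cfsg.Agent.Lib.Helper88.FSBase
import Cfsg.Agent.H85.Factor
import Cfsg.Agent.H85.FullyNorm
import Cfsg.Agent.Lib.Helper87.FSFactor
import Cfsg.Agent.Lib.Helper87.FSQuot
import Cfsg.Agent.Lib.Helper87.FSNormal
import Cfsg.Agent.Lib.Helper34.FocBase
import Cfsg.Agent.Lib.Helper34.FocW
import Cfsg.Agent.Lib.Helper34.FocClimb

/-!
# Control of transfer: the factor-system step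

For a saturated system `A` over `S` and a strongly closed subgroup `Z ≠ 1, S` (with the theorem
known over smaller groups) there is a subgroup `U` with `Z < U ≤ S`, normalized by everything
normalizing `S` and `Z`, such that every quotient `x⁻¹ φ(x)` of `A` lies in `focN A U · Z`.
-/

set_option autoImplicit false
open Cfsg Cfsg.FusionSystem

namespace Cfsg.Agent.Lib.Helper34.FocFactor

open Cfsg.Agent.Lib.Helper88.FSBase Cfsg.Agent.Lib.Helper34.FocBase Cfsg.Agent.Lib.Helper34.FocW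
  Cfsg.Agent.Lib.Helper34.FocClimb

universe u

/-- Conjugation by an element normalizing `S`, as an automorphism of `S`. -/
def conjEquiv {Ω : Type*} [Group Ω] (S : Subgroup Ω) (g : Ω)
    (hg : g ∈ Subgroup.normalizer (S : Set Ω)) : S ≃* S where
  toFun x := ⟨g * x * g⁻¹, ((Subgroup.mem_normalizer_iff.mp hg) x).mp x.2⟩
  invFun x := ⟨g⁻¹ * x * g, by
    have h := ((Subgroup.mem_normalizer_iff.mp (Subgroup.inv_mem _ hg)) x).mp x.2
    rwa [inv_inv] at h⟩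
  left_inv x := by
    apply Subtype.ext
    show g⁻¹ * (g * (x : Ω) * g⁻¹) * g = x
    group
  right_inv x := by
    apply Subtype.ext
    show g * (g⁻¹ * (x : Ω) * g) * g⁻¹ = x
    group
  map_mul' x y := by
    apply Subtype.ext
    show g * ((x : Ω) * y) * g⁻¹ = (g * x * g⁻¹) * (g * y * g⁻¹)
    group

theorem conjEquiv_apply {Ω : Type*} [Group Ω] (S : Subgroup Ω) (g : Ω)
    (hg : g ∈ Subgroup.normalizer (S : Set Ω)) (x : S) :
    ((conjEquiv S g hg x : S) : Ω) = g * x * g⁻¹ := rfl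

variable {p : ℕ} (W : ∀ (Q : Type u) [Group Q], Subgroup Q)

/-- `Wsub W T` is stable under an automorphism of the ambient group stabilizing `T`. -/
theorem Wsub_equiv_mem
    (hW2 : ∀ (Q R : Type u) [Group Q] [Group R] [Finite Q], IsPGroup p Q →
      ∀ φ : Q ≃* R, (W Q).map φ.toMonoidHom = W R)
    {Γ : Type u} [Group Γ] {T : Subgroup Γ} [Finite T] (hT : IsPGroup p T) (e : Γ ≃* Γ)
    (he : T.map e.toMonoidHom = T) {w : Γ} (hw : w ∈ Wsub W T) : e w ∈ Wsub W T := by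
  let f : T →* Γ := e.toMonoidHom.comp T.subtype
  have hf : Function.Injective f := by
    intro a b hab
    exact Subtype.ext (e.injective hab)
  have hr0 : f.range = T.map e.toMonoidHom := by
    ext y
    constructor
    · rintro ⟨x, rfl⟩
      exact ⟨x, x.2, rfl⟩
    · rintro ⟨x, hx, rfl⟩
      exact ⟨⟨x, hx⟩, rfl⟩
  have hr : f.range = T := hr0.trans he
  have key := Wsub_range W hW2 hT f hf
  rw [hr] at key
  obtain ⟨x, hx, rfl⟩ := hw
  rw [key]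
  exact ⟨x, hx, rfl⟩

theorem factor_step [Fact p.Prime]
    (hW1 : ∀ (Q : Type u) [Group Q] [Finite Q], IsPGroup p Q → Nontrivial Q → W Q ≠ ⊥)
    (hW2 : ∀ (Q R : Type u) [Group Q] [Group R] [Finite Q], IsPGroup p Q →
      ∀ φ : Q ≃* R, (W Q).map φ.toMonoidHom = W R)
    {n : ℕ} (ih : IHn p W n) {Ω : Type u} [Group Ω] {S : Subgroup Ω} [Finite S]
    (hcard : Nat.card S ≤ n + 1) (hS : IsPGroup p S) (A : FusionSystem S) (hA : A.IsSaturated p)
    (Z : Subgroup Ω) (hZ : A.StronglyClosed Z) (hZbot : Z ≠ ⊥) (hZS : ¬ S ≤ Z) :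
    ∃ U : Subgroup Ω, Z ≤ U ∧ U ≤ S ∧ ¬ U ≤ Z ∧
      (∀ g : Ω, g ∈ Subgroup.normalizer (S : Set Ω) → g ∈ Subgroup.normalizer (Z : Set Ω) →
        g ∈ Subgroup.normalizer (U : Set Ω)) ∧
      ∀ (P : Subgroup Ω) (φ : P →* Ω), φ ∈ A.Hom P → ∀ x : P,
        ∃ f ∈ focN A U, ∃ z ∈ Z, (x : Ω)⁻¹ * φ x = f * z := by
  classical
  have hZle : Z ≤ S := hZ.1
  have hSnZ := Cfsg.Agent.Lib.Helper87.FSNormal.le_normalizer_of_stronglyClosed A hZ
  have hZ'n : (Z.subgroupOf S).Normal := by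
    constructor
    intro x hx g
    rw [Subgroup.mem_subgroupOf] at hx ⊢
    exact ((Subgroup.mem_normalizer_iff.mp (hSnZ g.2)) _).mp hx
  have hker : ∀ s : S, (QuotientGroup.mk' (Z.subgroupOf S)) s = 1 ↔ (s : Ω) ∈ Z := by
    intro s
    rw [QuotientGroup.mk'_apply, QuotientGroup.eq_one_iff]
    exact Subgroup.mem_subgroupOf
  have hsurj : Function.Surjective (QuotientGroup.mk' (Z.subgroupOf S)) :=
    QuotientGroup.mk'_surjective _
  have hrange : (QuotientGroup.mk' (Z.subgroupOf S)).range = ⊤ :=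
    MonoidHom.range_eq_top.mpr hsurj
  obtain ⟨A₁, hA₁⟩ := Cfsg.Agent.H85.exists_factorSystem A Z hZ
    (QuotientGroup.mk' (Z.subgroupOf S)) hker ⊤ hrange
  have hA₁sat := Cfsg.Agent.Lib.Helper87.FSFactor.factor_saturated hS A hA Z hZ _ A₁ hA₁
  have hfinZ : Finite Z := fin_of_le hZle
  have hZ2 : 1 < Nat.card Z := (Subgroup.one_lt_card_iff_ne_bot _).mpr hZbot
  have hcardZ' : Nat.card (Z.subgroupOf S) = Nat.card Z :=
    Nat.card_congr (Subgroup.subgroupOfEquivOfLe hZle).toEquiv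
  have hmul : Nat.card S = Nat.card (↥S ⧸ Z.subgroupOf S) * Nat.card (Z.subgroupOf S) :=
    Subgroup.card_eq_card_quotient_mul_card_subgroup _
  have hpos : 0 < Nat.card (↥S ⧸ Z.subgroupOf S) := Nat.card_pos
  have hlt : Nat.card (↥S ⧸ Z.subgroupOf S) < Nat.card S := by
    rw [hmul, hcardZ']
    calc Nat.card (↥S ⧸ Z.subgroupOf S) = Nat.card (↥S ⧸ Z.subgroupOf S) * 1 := (mul_one _).symm
      _ < Nat.card (↥S ⧸ Z.subgroupOf S) * Nat.card Z := (Nat.mul_lt_mul_left hpos).mpr hZ2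
  have hcardtop : Nat.card (⊤ : Subgroup (↥S ⧸ Z.subgroupOf S)) ≤ n := by
    rw [Subgroup.card_top]
    omega
  have hptop : IsPGroup p (⊤ : Subgroup (↥S ⧸ Z.subgroupOf S)) :=
    (hS.to_quotient (Z.subgroupOf S)).to_subgroup ⊤
  have hG : Gd W A₁ := ih _ ⊤ hcardtop hptop A₁ hA₁sat
  have hθtop : ∀ s : S, (QuotientGroup.mk' (Z.subgroupOf S)) s ∈
      (⊤ : Subgroup (↥S ⧸ Z.subgroupOf S)) := fun s => Subgroup.mem_top _
  -- the subgroup `U`
  have hUS := Cfsg.Agent.H85.preimageAlong_le (QuotientGroup.mk' (Z.subgroupOf S))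
    (Wsub W (⊤ : Subgroup (↥S ⧸ Z.subgroupOf S)))
  have hZU : Z ≤ preimageAlong (QuotientGroup.mk' (Z.subgroupOf S))
      (Wsub W (⊤ : Subgroup (↥S ⧸ Z.subgroupOf S))) := by
    intro q hq
    refine (Cfsg.Agent.H85.mem_preimageAlong _ _ q).mpr ⟨hZle hq, ?_⟩
    rw [(hker ⟨q, hZle hq⟩).mpr hq]
    exact Subgroup.one_mem _
  have htopne : (⊤ : Subgroup (↥S ⧸ Z.subgroupOf S)) ≠ ⊥ := by
    intro h
    apply hZS
    intro s hs
    have h1 : (QuotientGroup.mk' (Z.subgroupOf S)) ⟨s, hs⟩ ∈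
        (⊤ : Subgroup (↥S ⧸ Z.subgroupOf S)) := Subgroup.mem_top _
    rw [h, Subgroup.mem_bot] at h1
    exact (hker ⟨s, hs⟩).mp h1
  have hWne : Wsub W (⊤ : Subgroup (↥S ⧸ Z.subgroupOf S)) ≠ ⊥ := Wsub_ne_bot W hW1 hptop htopne
  have hUZ : ¬ preimageAlong (QuotientGroup.mk' (Z.subgroupOf S))
      (Wsub W (⊤ : Subgroup (↥S ⧸ Z.subgroupOf S))) ≤ Z := by
    intro hle
    obtain ⟨⟨w, hw⟩, hw1⟩ := (Subgroup.ne_bot_iff_exists_ne_one).mp hWne
    obtain ⟨s, hs⟩ := hsurj w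
    have hsU : (s : Ω) ∈ preimageAlong (QuotientGroup.mk' (Z.subgroupOf S))
        (Wsub W (⊤ : Subgroup (↥S ⧸ Z.subgroupOf S))) :=
      (Cfsg.Agent.H85.mem_preimageAlong _ _ _).mpr ⟨s.2, by rw [hs]; exact hw⟩
    apply hw1
    apply Subtype.ext
    show w = 1
    rw [← hs]
    exact (hker s).mpr (hle hsU)
  -- conjugation invariance
  have hconj : ∀ g : Ω, g ∈ Subgroup.normalizer (S : Set Ω) →
      g ∈ Subgroup.normalizer (Z : Set Ω) →
      ∀ u ∈ preimageAlong (QuotientGroup.mk' (Z.subgroupOf S))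
        (Wsub W (⊤ : Subgroup (↥S ⧸ Z.subgroupOf S))), g * u * g⁻¹ ∈
        preimageAlong (QuotientGroup.mk' (Z.subgroupOf S))
          (Wsub W (⊤ : Subgroup (↥S ⧸ Z.subgroupOf S))) := by
    intro g hgS hgZ u hu
    obtain ⟨huS, hθu⟩ := (Cfsg.Agent.H85.mem_preimageAlong _ _ u).mp hu
    have he : (Z.subgroupOf S).map (conjEquiv S g hgS).toMonoidHom = Z.subgroupOf S := by
      ext y
      constructor
      · rintro ⟨x, hx, rfl⟩
        have hx' : (x : Ω) ∈ Z := Subgroup.mem_subgroupOf.mp hx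
        exact Subgroup.mem_subgroupOf.mpr (((Subgroup.mem_normalizer_iff.mp hgZ) x).mp hx')
      · intro hy
        have hy' : (y : Ω) ∈ Z := Subgroup.mem_subgroupOf.mp hy
        refine ⟨(conjEquiv S g hgS).symm y, ?_, (conjEquiv S g hgS).apply_symm_apply y⟩
        apply Subgroup.mem_subgroupOf.mpr
        show g⁻¹ * (y : Ω) * g ∈ Z
        have h := ((Subgroup.mem_normalizer_iff.mp (Subgroup.inv_mem _ hgZ)) y).mp hy'
        rwa [inv_inv] at h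
    have hmem := Wsub_equiv_mem W hW2 hptop
      (QuotientGroup.congr (Z.subgroupOf S) (Z.subgroupOf S) (conjEquiv S g hgS) he)
      (by
        apply Subgroup.map_top_of_surjective
        exact (QuotientGroup.congr (Z.subgroupOf S) (Z.subgroupOf S)
          (conjEquiv S g hgS) he).surjective) hθu
    have hgu : g * u * g⁻¹ ∈ S := ((Subgroup.mem_normalizer_iff.mp hgS) u).mp huS
    refine (Cfsg.Agent.H85.mem_preimageAlong _ _ _).mpr ⟨hgu, ?_⟩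
    have e1 : (QuotientGroup.congr (Z.subgroupOf S) (Z.subgroupOf S) (conjEquiv S g hgS) he)
        ((QuotientGroup.mk' (Z.subgroupOf S)) ⟨u, huS⟩) =
        (QuotientGroup.mk' (Z.subgroupOf S)) ⟨g * u * g⁻¹, hgu⟩ := rfl
    rw [← e1]
    exact hmem
  have hnorm : ∀ g : Ω, g ∈ Subgroup.normalizer (S : Set Ω) →
      g ∈ Subgroup.normalizer (Z : Set Ω) →
      g ∈ Subgroup.normalizer ((preimageAlong (QuotientGroup.mk' (Z.subgroupOf S))
        (Wsub W (⊤ : Subgroup (↥S ⧸ Z.subgroupOf S))) : Subgroup Ω) : Set Ω) := by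
    intro g hgS hgZ
    refine Cfsg.Agent.H85.mem_normalizer_of_forall (hconj g hgS hgZ) (fun u hu => ?_)
    have h := hconj g⁻¹ (Subgroup.inv_mem _ hgS) (Subgroup.inv_mem _ hgZ) u hu
    rwa [inv_inv] at h
  refine ⟨_, hZU, hUS, hUZ, hnorm, ?_⟩
  have hSnU : S ≤ Subgroup.normalizer ((preimageAlong (QuotientGroup.mk' (Z.subgroupOf S))
      (Wsub W (⊤ : Subgroup (↥S ⧸ Z.subgroupOf S))) : Subgroup Ω) : Set Ω) := fun s hs =>
    hnorm s (Subgroup.le_normalizer hs) (hSnZ hs)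
  have hfinU : Finite ↥(preimageAlong (QuotientGroup.mk' (Z.subgroupOf S))
      (Wsub W (⊤ : Subgroup (↥S ⧸ Z.subgroupOf S)))) := fin_of_le hUS
  -- the focal subgroup of the normalizer system upstairs
  have hD : focN A₁ (Wsub W (⊤ : Subgroup (↥S ⧸ Z.subgroupOf S))) ≤
      ((focN A (preimageAlong (QuotientGroup.mk' (Z.subgroupOf S))
        (Wsub W (⊤ : Subgroup (↥S ⧸ Z.subgroupOf S))))).subgroupOf S).map
        (QuotientGroup.mk' (Z.subgroupOf S)) := by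
    rw [focN_le_iff]
    rintro Pb ψb ⟨h1, h2, h3, ψp, hψp, hext, hmap⟩ yb
    obtain ⟨-, ψ, hψ, hPS, hψS, hP', hind⟩ := (hA₁.2.2.2 _ ψp).mp hψp
    have hUP : preimageAlong (QuotientGroup.mk' (Z.subgroupOf S))
        (Wsub W (⊤ : Subgroup (↥S ⧸ Z.subgroupOf S))) ≤
        preimageAlong (QuotientGroup.mk' (Z.subgroupOf S))
          (Pb ⊔ Wsub W (⊤ : Subgroup (↥S ⧸ Z.subgroupOf S))) :=
      Cfsg.Agent.Lib.Helper87.FSFactor.preimageAlong_mono _ le_sup_right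
    have hψN : ψ ∈ A.normalizerHom (preimageAlong (QuotientGroup.mk' (Z.subgroupOf S))
        (Wsub W (⊤ : Subgroup (↥S ⧸ Z.subgroupOf S)))) _ := by
      refine normalizerHom_of_le A hψ hUP (fun y hy => ⟨hPS hy, hSnU (hPS hy)⟩) ?_
      intro y hy
      obtain ⟨hyS, hθy⟩ := (Cfsg.Agent.H85.mem_preimageAlong _ _ _).mp hy
      refine (Cfsg.Agent.H85.mem_preimageAlong _ _ _).mpr ⟨hψS y, ?_⟩
      rw [← hind y]
      exact hmap.le ⟨_, Subgroup.mem_subgroupOf.mpr hθy, rfl⟩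
    obtain ⟨s, hs⟩ := hsurj (yb : ↥S ⧸ Z.subgroupOf S)
    have hsP : (s : Ω) ∈ preimageAlong (QuotientGroup.mk' (Z.subgroupOf S))
        (Pb ⊔ Wsub W (⊤ : Subgroup (↥S ⧸ Z.subgroupOf S))) := by
      refine (Cfsg.Agent.H85.mem_preimageAlong _ _ _).mpr ⟨s.2, ?_⟩
      rw [hs]
      exact (le_sup_left : Pb ≤ Pb ⊔ Wsub W (⊤ : Subgroup (↥S ⧸ Z.subgroupOf S))) yb.2
    have hst := mem_focN A hψN ⟨s, hsP⟩
    have hmemS : (s : Ω)⁻¹ * ψ ⟨s, hsP⟩ ∈ S := S.mul_mem (S.inv_mem s.2) (hψS _)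
    refine ⟨⟨(s : Ω)⁻¹ * ψ ⟨s, hsP⟩, hmemS⟩, Subgroup.mem_subgroupOf.mpr hst, ?_⟩
    have e1 : (⟨(s : Ω)⁻¹ * ψ ⟨s, hsP⟩, hmemS⟩ : S) = s⁻¹ * ⟨ψ ⟨s, hsP⟩, hψS _⟩ := rfl
    rw [e1, map_mul, map_inv, ← hind ⟨s, hsP⟩, ← hext yb]
    have e2 : (⟨(QuotientGroup.mk' (Z.subgroupOf S)) ⟨((⟨s, hsP⟩ : ↥(preimageAlong
        (QuotientGroup.mk' (Z.subgroupOf S))
        (Pb ⊔ Wsub W (⊤ : Subgroup (↥S ⧸ Z.subgroupOf S))))) : Ω), hPS hsP⟩, hP' ⟨s, hsP⟩⟩ :
        ↥(Pb ⊔ Wsub W (⊤ : Subgroup (↥S ⧸ Z.subgroupOf S)))) =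
        Subgroup.inclusion le_sup_left yb := Subtype.ext hs
    rw [e2, hs]
  intro P φ hφ x
  have hle := Cfsg.Agent.Lib.Helper87.FSQuot.le_indSys hS A hA Z hZ _ A₁ hA₁ hθtop P hφ
  obtain ⟨-, φ', hφ', hPS, hφS, hP', hind⟩ := hle
  have h1 := hG _ φ' hφ' ⟨_, hP' x⟩
  rw [hind x] at h1
  have h2 := hD h1
  obtain ⟨f, hf0, hfeq⟩ := h2
  have hf := Subgroup.mem_subgroupOf.mp hf0
  have hxS : (x : Ω)⁻¹ * φ x ∈ S := S.mul_mem (S.inv_mem (hPS x.2)) (hφS x)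
  have h3 : (QuotientGroup.mk' (Z.subgroupOf S)) (f⁻¹ * ⟨(x : Ω)⁻¹ * φ x, hxS⟩) = 1 := by
    rw [map_mul, map_inv, hfeq]
    have e1 : (⟨(x : Ω)⁻¹ * φ x, hxS⟩ : S) = ⟨x, hPS x.2⟩⁻¹ * ⟨φ x, hφS x⟩ := rfl
    rw [e1, map_mul, map_inv]
    group
  have h4 := (hker _).mp h3
  refine ⟨f, hf, _, h4, ?_⟩
  show (x : Ω)⁻¹ * φ x = (f : Ω) * ((f : Ω)⁻¹ * ((x : Ω)⁻¹ * φ x))
  group

end Cfsg.Agent.Lib.Helper34.FocFactor
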