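import Mathlib
import Cfsg.Prelude.Def_FusionSystem
import Cfsg.Prelude.Def_FusionComponents
import Cfsg.Agent.Lib.Helper88.FSBase
import Cfsg.Agent.H85.KL1
import Cfsg.Agent.Lib.Helper87.FSNormal
import Cfsg.Agent.Lib.Helper34.FocBase
import Cfsg.Agent.Lib.Helper34.FocW
import Cfsg.Agent.Lib.Helper34.FocClimb
import Cfsg.Agent.Lib.Helper34.FocFactor
import Cfsg.Agent.Lib.Helper34.FocCent

/-!
# Control of transfer by a characteristic functor in saturated fusion systems: the induction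

The main induction (on `|S|`, and on the order of a normal subgroup of a saturated subsystem),
with the two local inputs — the constrained case and the Kessar–Linckelmann generation lemma — as
hypotheses.
-/

set_option autoImplicit false
open Cfsg Cfsg.FusionSystem

namespace Cfsg.Agent.Lib.Helper34.FocMain

open Cfsg.Agent.Lib.Helper88.FSBase Cfsg.Agent.Lib.Helper34.FocBase Cfsg.Agent.Lib.Helper34.FocW
  Cfsg.Agent.Lib.Helper34.FocClimb Cfsg.Agent.Lib.Helper34.FocFactor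
  Cfsg.Agent.Lib.Helper34.FocCent

universe u

/-- The constrained case, as an interface. -/
def ConstrainedCase (p : ℕ) (W : ∀ (Q : Type u) [Group Q], Subgroup Q) : Prop :=
  ∀ {Ω : Type u} [Group Ω] {S : Subgroup Ω} [Finite S], IsPGroup p S → ∀ (E : FusionSystem S),
    E.IsSaturated p → ∀ (Q : Subgroup Ω), E.IsNormal Q → centralizerIn S Q ≤ Q →
    ∀ q ∈ Q, q ∈ E.focalSubgroup → q ∈ Subgroup.closure {y : Ω | ∃ (P : Subgroup Ω)
      (φ : P →* Ω) (x : P), φ ∈ E.normalizerHom ((W ↥S).map S.subtype) P ∧ y = (x : Ω)⁻¹ * φ x}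

/-- The generation lemma, as an interface. -/
def Generation (p : ℕ) : Prop :=
  ∀ {Ω : Type u} [Group Ω] {S : Subgroup Ω} [Finite S], IsPGroup p S → ∀ (E : FusionSystem S),
    E.IsSaturated p → ∀ (Q : Subgroup Ω), E.IsNormal Q → ∀ (𝔇 : Subgroup Ω),
    (∀ s ∈ S, ∀ x ∈ S, x⁻¹ * (s * x * s⁻¹) ∈ 𝔇) →
    (∀ (P : Subgroup Ω) (φ : P →* Ω), φ ∈ E.normalizerHom (Q ⊔ centralizerIn S Q) P →
      ∀ x : P, (x : Ω)⁻¹ * φ x ∈ 𝔇) →
    (∀ (P : Subgroup Ω) (φ : P →* Ω), φ ∈ E.centralizerHom Q P → ∀ x : P, (x : Ω)⁻¹ * φ x ∈ 𝔇) →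
    ∀ (P : Subgroup Ω) (φ : P →* Ω), φ ∈ E.Hom P → ∀ x : P, (x : Ω)⁻¹ * φ x ∈ 𝔇

variable {p : ℕ} [Fact p.Prime] (W : ∀ (Q : Type u) [Group Q], Subgroup Q)

/-- The key step: a saturated system with a normal subgroup `Q` such that the normalizer systems of
the normal subgroups of `S` of order `> |Q|` are stable is stable. -/
theorem keyK
    (hW1 : ∀ (Q : Type u) [Group Q] [Finite Q], IsPGroup p Q → Nontrivial Q → W Q ≠ ⊥)
    (hW2 : ∀ (Q R : Type u) [Group Q] [Group R] [Finite Q], IsPGroup p Q →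
      ∀ φ : Q ≃* R, (W Q).map φ.toMonoidHom = W R)
    (hAl : ConstrainedCase p W) (hBl : Generation.{u} p)
    {n : ℕ} (ih : IHn p W n) {Ω : Type u} [Group Ω] {S : Subgroup Ω} [Finite S]
    (hcard : Nat.card S ≤ n + 1) (hS : IsPGroup p S) (E : FusionSystem S) (hE : E.IsSaturated p)
    (Q : Subgroup Ω) (hQ : E.IsNormal Q)
    (hN : ∀ U : Subgroup Ω, U ≤ S → S ≤ Subgroup.normalizer (U : Set Ω) →
      Nat.card Q < Nat.card U → ∀ (P : Subgroup Ω) (φ : P →* Ω), φ ∈ E.normalizerHom U P →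
      Stab (focN E (Wsub W S)) φ) :
    Gd W E := by
  have hQS : Q ≤ S := hQ.1
  have hfinQ : Finite Q := fin_of_le hQS
  by_cases hQbot : Q = ⊥
  · -- the climb
    apply climb W hW1 hW2 ih hcard hS E hE _ le_rfl
    intro U hUS hUn hUbot
    apply hN U hUS hUn
    have hfinU : Finite U := fin_of_le hUS
    rw [hQbot, Subgroup.card_bot]
    exact (Subgroup.one_lt_card_iff_ne_bot U).mpr hUbot
  have hQsc := Cfsg.Agent.Lib.Helper87.FSNormal.stronglyClosed_of_isNormal E hQ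
  have hSnQ := Cfsg.Agent.Lib.Helper87.FSNormal.le_normalizer_of_stronglyClosed E hQsc
  by_cases hQtop : S ≤ Q
  · -- `S` is normal in `E`
    intro P φ hφ
    obtain ⟨ψ, hψ, hψφ, -⟩ := hQ.2 P φ hφ
    have hPS : P ≤ S := dom_le E hφ
    have hsup : P ⊔ Q = S := le_antisymm (sup_le hPS hQS) (hQtop.trans le_sup_right)
    obtain ⟨ψ', hψ', hψ'x⟩ := transport_mem E hsup hψ
    refine stab_of_le_top W hW2 hS E hψ' hPS (fun x => ?_)
    rw [hψ'x x ((le_sup_left : P ≤ P ⊔ Q) x.2) (hPS x.2)]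
    exact hψφ x
  -- the factor system modulo `Q`
  obtain ⟨U, hZU, hUS, hUZ, hUnorm, hfac⟩ :=
    factor_step W hW1 hW2 ih hcard hS E hE Q hQsc hQbot hQtop
  have hSnU : S ≤ Subgroup.normalizer (U : Set Ω) := fun s hs =>
    hUnorm s (Subgroup.le_normalizer hs) (hSnQ hs)
  have hfinU : Finite U := fin_of_le hUS
  have hcardU : Nat.card Q < Nat.card U := by
    by_contra hcon
    have heq : Q = U := Subgroup.eq_of_le_of_card_ge hZU (not_lt.mp hcon)
    exact hUZ heq.ge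
  have hfocU : focN E U ≤ focN E (Wsub W S) := (focN_le_iff E U _).mpr (hN U hUS hSnU hcardU)
  suffices hsuff : ∀ q ∈ Q, q ∈ E.focalSubgroup → q ∈ focN E (Wsub W S) by
    intro P φ hφ x
    obtain ⟨f, hf, z, hz, hxz⟩ := hfac P φ hφ x
    have hfF : f ∈ E.focalSubgroup := focN_le_focal E U hf
    have hxF : (x : Ω)⁻¹ * φ x ∈ E.focalSubgroup := Subgroup.subset_closure ⟨P, φ, x, hφ, rfl⟩
    have hzF : z ∈ E.focalSubgroup := by
      have e : z = f⁻¹ * ((x : Ω)⁻¹ * φ x) := by rw [hxz]; group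
      rw [e]
      exact Subgroup.mul_mem _ (Subgroup.inv_mem _ hfF) hxF
    rw [hxz]
    exact Subgroup.mul_mem _ (hfocU hf) (hsuff z hz hzF)
  by_cases hC : centralizerIn S Q ≤ Q
  · intro q hq hqF
    exact @hAl Ω _ S _ hS E hE Q hQ hC q hq hqF
  · -- the non-constrained case
    have hQ1S : Q ⊔ centralizerIn S Q ≤ S := sup_le hQS inf_le_left
    have hfinQ1 : Finite ↥(Q ⊔ centralizerIn S Q) := fin_of_le hQ1S
    have hSnQ1 : S ≤ Subgroup.normalizer ((Q ⊔ centralizerIn S Q : Subgroup Ω) : Set Ω) :=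
      fun s hs => normalizer_sup (hSnQ hs)
        (normalizer_inf (Subgroup.le_normalizer hs) (normalizer_centralizer (hSnQ hs)))
    have hcardQ1 : Nat.card Q < Nat.card ↥(Q ⊔ centralizerIn S Q) := by
      by_contra hcon
      have heq : Q = Q ⊔ centralizerIn S Q :=
        Subgroup.eq_of_le_of_card_ge le_sup_left (not_lt.mp hcon)
      exact hC (le_sup_right.trans heq.ge)
    have hall := hBl hS E hE Q hQ (focN E (Wsub W S))
      (fun s hs x hx => conj_mem_focN W hW2 hS E hs hx)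
      (hN _ hQ1S hSnQ1 hcardQ1)
      (cent_stable W hW1 hW2 ih hcard hS E hE Q hQ hQbot hC hN)
    intro q _ hqF
    exact (focal_le_iff E _).mpr hall hqF

/-- The induction. -/
theorem main_induction
    (hW1 : ∀ (Q : Type u) [Group Q] [Finite Q], IsPGroup p Q → Nontrivial Q → W Q ≠ ⊥)
    (hW2 : ∀ (Q R : Type u) [Group Q] [Group R] [Finite Q], IsPGroup p Q →
      ∀ φ : Q ≃* R, (W Q).map φ.toMonoidHom = W R)
    (hAl : ConstrainedCase p W) (hBl : Generation.{u} p) : ∀ n : ℕ, IHn p W n := by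
  intro n
  induction n with
  | zero =>
    intro Ω _ S _ hcard
    have := Nat.card_pos (α := S)
    omega
  | succ n ih =>
    intro Ω _ S _ hcard hS F hF
    by_contra hFn
    have hne_s : ({k | ∃ (E : FusionSystem S) (Q : Subgroup Ω), E.IsSaturated p ∧
        (∀ P : Subgroup Ω, E.Hom P ⊆ F.Hom P) ∧ ¬ Gd W E ∧ E.IsNormal Q ∧
        Nat.card Q = k} : Set ℕ).Nonempty :=
      ⟨_, F, ⊥, hF, fun P => subset_rfl, hFn, Cfsg.Agent.H85.isNormal_bot F, rfl⟩
    have hbdd : BddAbove ({k | ∃ (E : FusionSystem S) (Q : Subgroup Ω), E.IsSaturated p ∧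
        (∀ P : Subgroup Ω, E.Hom P ⊆ F.Hom P) ∧ ¬ Gd W E ∧ E.IsNormal Q ∧
        Nat.card Q = k} : Set ℕ) := by
      refine ⟨Nat.card S, ?_⟩
      rintro k ⟨E, Q, -, -, -, hQ, rfl⟩
      exact Subgroup.card_le_of_le hQ.1
    obtain ⟨E, Q, hE, hEF, hEn, hQ, hQcard⟩ := Nat.sSup_mem hne_s hbdd
    have hmax : ∀ (E' : FusionSystem S) (Q' : Subgroup Ω), E'.IsSaturated p →
        (∀ P : Subgroup Ω, E'.Hom P ⊆ F.Hom P) → ¬ Gd W E' → E'.IsNormal Q' →
        Nat.card Q' ≤ Nat.card Q := by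
      intro E' Q' h1 h2 h3 h4
      rw [hQcard]
      exact le_csSup hbdd ⟨E', Q', h1, h2, h3, h4, rfl⟩
    apply hEn
    apply keyK W hW1 hW2 hAl hBl ih hcard hS E hE Q hQ
    intro U hUS hUn hcardU P φ hφ
    obtain ⟨E', hE'hom, hE'sat, hE'norm⟩ := Cfsg.Agent.H85.exists_normalizer_sub hS E hE hUS hUn
    have hsub : ∀ P : Subgroup Ω, E'.Hom P ⊆ E.Hom P := fun P => by
      rw [hE'hom P]
      exact Cfsg.Agent.H85.normalizerHom_subset E U P
    have hG' : Gd W E' := by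
      by_contra hcon
      have := hmax E' U hE'sat (fun P => (hsub P).trans (hEF P)) hcon hE'norm
      omega
    have h1 : Stab (focN E' (Wsub W S)) φ := hG' P φ (by rw [hE'hom P]; exact hφ)
    exact h1.mono (focN_mono hsub _)

/-- **Control of transfer**, modulo the two local inputs. -/
theorem focal_eq
    (hW1 : ∀ (Q : Type u) [Group Q] [Finite Q], IsPGroup p Q → Nontrivial Q → W Q ≠ ⊥)
    (hW2 : ∀ (Q R : Type u) [Group Q] [Group R] [Finite Q], IsPGroup p Q →
      ∀ φ : Q ≃* R, (W Q).map φ.toMonoidHom = W R)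
    (hAl : ConstrainedCase p W) (hBl : Generation.{u} p)
    {Ω : Type u} [Group Ω] {S : Subgroup Ω} [Finite S] (hS : IsPGroup p S)
    (F : Cfsg.FusionSystem S) (hF : F.IsSaturated p)
    (N : Cfsg.FusionSystem (Cfsg.FusionSystem.normalizerIn S ((W ↥S).map S.subtype)))
    (hN : F.IsNormalizerSystem ((W ↥S).map S.subtype) N) :
    N.focalSubgroup = F.focalSubgroup := by
  apply le_antisymm
  · rw [focal_le_iff]
    intro P φ hφ x
    rw [hN P] at hφ
    exact Subgroup.subset_closure ⟨P, φ, x, hφ.1, rfl⟩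
  · have h := main_induction W hW1 hW2 hAl hBl (Nat.card S) Ω S le_rfl hS F hF
    rw [focal_le_iff]
    intro P φ hφ
    refine (h P φ hφ).mono ?_
    rw [focN_le_iff]
    intro P' φ' hφ' x
    exact Subgroup.subset_closure ⟨P', φ', x, by rw [hN P']; exact hφ', rfl⟩

end Cfsg.Agent.Lib.Helper34.FocMain
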