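import Mathlib
import Cfsg.Agent.Lib.Helper94.OMiPStmt

/-!
# S5991 piece MRANK (sub-call of helper94): pure linear algebra

`V = W ⊕ U`, both stable under `N = x - 1`, `dim V = 2 d`, `dim N² V ≤ 1`, `dim N V ≥ d`: one of
`W`, `U` is killed by `N²` and has dimension `≤ 2 dim N(·) + 1`.
-/

set_option autoImplicit false

universe u

namespace Cfsg.Agent.Lib.Helper34.MRANK

open Cfsg.Agent.Lib.Helper94.OMiPStmt

/-- rank–nullity for the restriction of `g` to a subspace `T` -/
theorem rank_nullity {F : Type u} [Field F] {V : Type u} [AddCommGroup V] [Module F V]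
    [FiniteDimensional F V] (g : V →ₗ[F] V) (T : Submodule F V) :
    Module.finrank F ↥(T.map g) + Module.finrank F ↥(T ⊓ LinearMap.ker g) =
      Module.finrank F ↥T := by
  have h := LinearMap.finrank_range_add_finrank_ker (g.domRestrict T)
  rw [LinearMap.range_domRestrict, LinearMap.ker_domRestrict] at h
  rw [← h, ← Submodule.map_comap_subtype, Submodule.finrank_map_subtype_eq]

theorem two_rank_le {F : Type u} [Field F] {V : Type u} [AddCommGroup V] [Module F V]
    [FiniteDimensional F V] (g : V →ₗ[F] V) (T : Submodule F V) (hT : T.map g ≤ T) :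
    2 * Module.finrank F ↥(T.map g) ≤
      Module.finrank F ↥T + Module.finrank F ↥((T.map g).map g) := by
  have h1 := rank_nullity g T
  have h2 := rank_nullity g (T.map g)
  have h3 : Module.finrank F ↥(T.map g ⊓ LinearMap.ker g) ≤
      Module.finrank F ↥(T ⊓ LinearMap.ker g) :=
    Submodule.finrank_mono (inf_le_inf_right _ hT)
  omega

/-- [MRANK] -/
theorem main : MRank.{u} := by
  intro F _ d x W U hW hU hinf hsup hdim hN2 hN
  obtain ⟨N, hNdef⟩ : ∃ N, N = NM x := ⟨_, rfl⟩
  rw [← hNdef] at hN2 hN ⊢
  have hNW : W.map N ≤ W := by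
    rintro _ ⟨v, hv, rfl⟩
    rw [hNdef]
    unfold NM
    rw [LinearMap.sub_apply, LinearMap.id_apply]
    exact W.sub_mem (hW (Submodule.mem_map_of_mem hv)) hv
  have hNU : U.map N ≤ U := by
    rintro _ ⟨v, hv, rfl⟩
    rw [hNdef]
    unfold NM
    rw [LinearMap.sub_apply, LinearMap.id_apply]
    exact U.sub_mem (hU (Submodule.mem_map_of_mem hv)) hv
  have hr1 : LinearMap.range N = W.map N ⊔ U.map N := by
    rw [LinearMap.range_eq_map, ← hsup, Submodule.map_sup]
  have hr2 : LinearMap.range (N ∘ₗ N) = (W.map N).map N ⊔ (U.map N).map N := by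
    rw [LinearMap.range_comp, hr1, Submodule.map_sup]
  have hd1 : d ≤ Module.finrank F ↥(W.map N) + Module.finrank F ↥(U.map N) := by
    have h := Submodule.finrank_add_le_finrank_add_finrank (W.map N) (U.map N)
    rw [← hr1] at h
    omega
  have hdisj : (W.map N).map N ⊓ (U.map N).map N = ⊥ := by
    rw [eq_bot_iff, ← hinf]
    exact inf_le_inf ((Submodule.map_mono hNW).trans hNW) ((Submodule.map_mono hNU).trans hNU)
  have hd2 : Module.finrank F ↥((W.map N).map N) + Module.finrank F ↥((U.map N).map N) ≤ 1 := by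
    have h := Submodule.finrank_sup_add_finrank_inf_eq ((W.map N).map N) ((U.map N).map N)
    rw [hdisj, finrank_bot, add_zero, ← hr2] at h
    omega
  have hW2 := two_rank_le N W hNW
  have hU2 := two_rank_le N U hNU
  by_cases h0 : Module.finrank F ↥((W.map N).map N) = 0
  · left
    refine ⟨?_, by omega⟩
    intro v hv
    have hbot : (W.map N).map N = ⊥ := Submodule.finrank_eq_zero.1 h0
    have h1 : N (N v) ∈ (W.map N).map N :=
      Submodule.mem_map_of_mem (Submodule.mem_map_of_mem hv)
    rw [hbot] at h1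
    exact (Submodule.mem_bot F).1 h1
  · right
    have h0' : Module.finrank F ↥((U.map N).map N) = 0 := by omega
    refine ⟨?_, by omega⟩
    intro v hv
    have hbot : (U.map N).map N = ⊥ := Submodule.finrank_eq_zero.1 h0'
    have h1 : N (N v) ∈ (U.map N).map N :=
      Submodule.mem_map_of_mem (Submodule.mem_map_of_mem hv)
    rw [hbot] at h1
    exact (Submodule.mem_bot F).1 h1

end Cfsg.Agent.Lib.Helper34.MRANK
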