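import Mathlib
import Cfsg.Agent.Lib.Helper68.MixStmt

set_option autoImplicit false

/-! Small shared facts about the boundary context `BCtx` of S4017 (helper68's call). -/

namespace Cfsg.Agent.Lib.Helper34.MixBase

open Subgroup Cfsg.Agent.Lib.Helper68.MixStmt

universe u

variable {G : Type u} [Group G] [Finite G] {p a : ℕ} {Q : Subgroup G} {y : G}

/-- `p` is odd in the boundary context. -/
theorem p_ne_two (hc : BCtx G p a Q y) : p ≠ 2 := by
  intro h
  have h1 := hc.hpa
  have h2 : 2 ^ 2 ∣ 2 ^ a := pow_dvd_pow 2 hc.ha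
  rw [← h1, h] at h2
  omega

theorem coprime_pow (hc : BCtx G p a Q y) (j k : ℕ) : Nat.Coprime (p ^ j) (2 ^ k) :=
  Nat.Coprime.pow _ _ ((Nat.coprime_primes hc.hp Nat.prime_two).2 (p_ne_two hc))

/-- `Q` has a nonidentity element different from a given element. -/
theorem exists_third (hc : BCtx G p a Q y) (t : G) : ∃ s ∈ Q, s ≠ 1 ∧ s ≠ t := by
  by_contra hcon
  push Not at hcon
  have hsub : (Q : Set G) ⊆ {1, t} := by
    intro s hs
    by_cases h1 : s = 1
    · left
      exact h1
    · right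
      exact hcon s hs h1
  have h1 : Nat.card Q ≤ 2 := by
    calc Nat.card Q = (Q : Set G).ncard := Nat.card_coe_set_eq _
      _ ≤ ({1, t} : Set G).ncard := Set.ncard_le_ncard hsub (Set.toFinite _)
      _ ≤ 2 := by
          have h := Set.ncard_insert_le (1 : G) ({t} : Set G)
          rw [Set.ncard_singleton] at h
          exact h
  rw [hc.hQ] at h1
  have h2 : 2 ^ 2 ≤ 2 ^ a := Nat.pow_le_pow_right (by norm_num) hc.ha
  omega

/-- `y` does not centralize any nonidentity element of `Q`. -/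
theorem y_moves (hc : BCtx G p a Q y) (t : G) (ht : t ∈ Q) (ht1 : t ≠ 1) : ¬ (y * t = t * y) := by
  intro hcomm
  obtain ⟨s, hs, hs1, hst⟩ := exists_third hc t
  obtain ⟨k, hk⟩ := hc.htrans t ht ht1 s hs hs1
  have h1 : Commute (y ^ k) t := (show Commute y t from hcomm).pow_left k
  apply hst
  rw [← hk, h1.eq, mul_assoc, mul_inv_cancel, mul_one]

omit [Finite G] in
/-- a group of exponent `2` is abelian -/
theorem comm_of_exp (hexp : ∀ s ∈ Q, s * s = 1) (s t : G) (hs : s ∈ Q) (ht : t ∈ Q) :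
    s * t = t * s := by
  have h1 := hexp s hs
  have h2 := hexp t ht
  have h3 := hexp (s * t) (Q.mul_mem hs ht)
  symm
  calc t * s = (s * s) * (t * s) * (t * t) := by rw [h1, h2, one_mul, mul_one]
    _ = s * ((s * t) * (s * t)) * t := by group
    _ = s * t := by rw [h3, mul_one]

/-- `Q` meets a `p`-subgroup trivially. -/
theorem inter_pgroup (hc : BCtx G p a Q y) (V : Subgroup G) (hV : IsPGroup p V) (x : G)
    (hxQ : x ∈ Q) (hxV : x ∈ V) : x = 1 := by
  have h1 : orderOf x ∣ 2 ^ a := by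
    have h := orderOf_dvd_natCard (⟨x, hxQ⟩ : Q)
    rw [Subgroup.orderOf_mk, hc.hQ] at h
    exact h
  obtain ⟨k', hk'⟩ := hV ⟨x, hxV⟩
  have h2 : orderOf x ∣ p ^ k' := by
    apply orderOf_dvd_of_pow_eq_one
    have h := congrArg Subtype.val hk'
    simpa using h
  have h3 : orderOf x ∣ 1 := by
    rw [← Nat.Coprime.gcd_eq_one (coprime_pow hc k' a)]
    exact Nat.dvd_gcd h2 h1
  exact orderOf_eq_one_iff.1 (Nat.dvd_one.1 h3)

end Cfsg.Agent.Lib.Helper34.MixBase
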