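import Mathlib
import Cfsg.Agent.Lib.Helper68.MixStmt
import Cfsg.Agent.Lib.Helper34.MixBase

set_option autoImplicit false

namespace Cfsg.Agent.Lib.Helper34.MixCT

open Subgroup Cfsg.Agent.Lib.Helper68.MixStmt Cfsg.Agent.Lib.Helper34.MixBase

universe u

/-- [CT] `C_G(t)` is proper with a normal `p`-subgroup of index `2^a`, for `t ∈ Q#`. -/
theorem main (hEXP : EXP.{u}) (hNCENT : NCENT.{u}) (hBURN : BURN.{u}) : CT.{u} := by
  intro G _ _ p a Q y hc t ht ht1
  have hexp := hEXP G p a Q y hc
  have hne : centralizer ({t} : Set G) ≠ ⊤ := by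
    intro h
    have h1 : y ∈ centralizer ({t} : Set G) := by
      rw [h]
      exact mem_top y
    rw [mem_centralizer_iff] at h1
    have h2 := h1 t (Set.mem_singleton t)
    exact y_moves hc t ht ht1 h2.symm
  refine ⟨hne, hBURN G p a Q y hc _ hne ?_ ?_⟩
  · intro s hs
    rw [mem_centralizer_iff]
    intro x hx
    rw [Set.mem_singleton_iff] at hx
    subst hx
    exact comm_of_exp hexp x s ht hs
  · intro n hn
    have h1 := mem_centralizer_iff.1 hn.1 t (Set.mem_singleton t)
    exact hNCENT G p a Q y hc n hn.2 t ht ht1 h1.symm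

end Cfsg.Agent.Lib.Helper34.MixCT
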