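import Mathlib
import Cfsg.Agent.Lib.Helper68.MixStmt
import Cfsg.Agent.Lib.Helper34.MixBase

set_option autoImplicit false

namespace Cfsg.Agent.Lib.Helper34.MixLEMY

open Subgroup Cfsg.Agent.Lib.Helper68.MixStmt Cfsg.Agent.Lib.Helper34.MixBase

universe u

/-- a `p`-element of `X` lies in the normal `p`-subgroup `V` of `2`-power index -/
theorem mem_npc {G : Type u} [Group G] [Finite G] {p a : ℕ} {Q : Subgroup G} {y : G}
    (hc : BCtx G p a Q y) (X V : Subgroup G) (hVX : V ≤ X) (hVp : IsPGroup p V)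
    (hVn : ∀ g ∈ X, ∀ v ∈ V, g * v * g⁻¹ ∈ V) (b : ℕ) (hcard : Nat.card X = 2 ^ b * Nat.card V)
    (z : G) (hzX : z ∈ X) (hz : IsPElt p z) : z ∈ V := by
  have hp := hc.hp
  have : Fact p.Prime := ⟨hp⟩
  obtain ⟨k, hk⟩ := hz
  have hz3 : IsPGroup p (zpowers z) := by
    apply IsPGroup.of_card (n := k)
    rw [Nat.card_zpowers, hk]
  have hzN : zpowers z ≤ normalizer (V : Set G) := by
    rw [zpowers_le, mem_normalizer_iff]
    intro v
    constructor
    · intro hv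
      exact hVn z hzX v hv
    · intro hv
      have h := hVn z⁻¹ (X.inv_mem hzX) _ hv
      have e : z⁻¹ * (z * v * z⁻¹) * z⁻¹⁻¹ = v := by group
      rw [e] at h
      exact h
  have hsup : IsPGroup p (V ⊔ zpowers z : Subgroup G) :=
    IsPGroup.to_sup_of_normal_left' hVp hz3 hzN
  obtain ⟨j, hj⟩ := IsPGroup.iff_card.1 hsup
  have hle : V ⊔ zpowers z ≤ X := sup_le hVX (by rw [zpowers_le]; exact hzX)
  have hdvd := Subgroup.card_dvd_of_le hle
  rw [hj, hcard] at hdvd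
  have hdvd' : p ^ j ∣ Nat.card V := (coprime_pow hc j b).dvd_of_dvd_mul_left hdvd
  have hcard' : Nat.card (V ⊔ zpowers z : Subgroup G) ≤ Nat.card V := by
    rw [hj]
    exact Nat.le_of_dvd Nat.card_pos hdvd'
  have heq : V = V ⊔ zpowers z := Subgroup.eq_of_le_of_card_ge le_sup_left hcard'
  rw [heq]
  exact mem_sup_right (mem_zpowers z)

/-- [LEMY] a proper subgroup containing `Q` and `y` lies in `N_G(Q)`. -/
theorem main (hLEMM : LEMM.{u}) : LEMY.{u} := by
  intro G _ _ p a Q y hc X hX hQX hyX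
  rcases hLEMM G p a Q y hc X hX hQX with h | ⟨V, hVX, hVp, hVn, hcard⟩
  · exact h
  exfalso
  have hyV : y ∈ V := mem_npc hc X V hVX hVp hVn a hcard y hyX hc.hy
  have hyc : ∀ s ∈ Q, y * s = s * y := by
    intro s hs
    have h1 : y * s * y⁻¹ * s⁻¹ ∈ Q :=
      Q.mul_mem ((mem_normalizer_iff.1 hc.hyQ s).1 hs) (Q.inv_mem hs)
    have h2 : y * s * y⁻¹ * s⁻¹ ∈ V := by
      have h3 := hVn s (hQX hs) y⁻¹ (V.inv_mem hyV)
      have h4 := V.mul_mem hyV h3
      have e : y * (s * y⁻¹ * s⁻¹) = y * s * y⁻¹ * s⁻¹ := by group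
      rw [e] at h4
      exact h4
    have h5 := inter_pgroup hc V hVp _ h1 h2
    calc y * s = (y * s * y⁻¹ * s⁻¹) * (s * y) := by group
      _ = s * y := by rw [h5, one_mul]
  obtain ⟨t, ht, ht1, -⟩ := exists_third hc (1 : G)
  exact y_moves hc t ht ht1 (hyc t ht)

end Cfsg.Agent.Lib.Helper34.MixLEMY
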