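import Mathlib

set_option autoImplicit false

namespace Cfsg.Agent.Lib.Helper34.PComplement

/-- If every element of order prime to `p` of the finite group `N` lies in the subgroup `C`, and `C` has a
central Sylow `p`-subgroup, then `N` has a normal `p`-complement. -/
theorem exists_normal_complement_of_central_sylow {N : Type*} [Group N] [Finite N] {p : ℕ} [Fact p.Prime]
    (C : Subgroup N) (h1 : ∀ g : N, (orderOf g).Coprime p → g ∈ C)
    (Z : Sylow p C) (hZ : ∀ z ∈ Z, ∀ c : C, z * c = c * z) :
    ∃ (P : Sylow p N) (K : Subgroup N), K.Normal ∧ K.IsComplement' (P : Subgroup N) := by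
  classical
  have hp : p.Prime := Fact.out
  have hP : Subgroup.normalizer (Z : Set C) ≤ Subgroup.centralizer (Z : Set C) := by
    intro c _
    refine Subgroup.mem_centralizer_iff.mpr ?_
    intro z hz
    exact hZ z hz c
  have hnd : ¬ p ∣ Nat.card (MonoidHom.transferSylow Z hP).ker :=
    MonoidHom.not_dvd_card_ker_transferSylow Z hP
  have hK₀ : ∀ c : C, c ∈ (MonoidHom.transferSylow Z hP).ker ↔ (orderOf c).Coprime p := by
    intro c
    constructor
    · intro hc
      have h2 : orderOf c ∣ Nat.card (MonoidHom.transferSylow Z hP).ker := by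
        have := orderOf_dvd_natCard (⟨c, hc⟩ : (MonoidHom.transferSylow Z hP).ker)
        rwa [← Subgroup.orderOf_coe] at this
      have h3 : (Nat.card (MonoidHom.transferSylow Z hP).ker).Coprime p :=
        ((Nat.Prime.coprime_iff_not_dvd hp).mpr hnd).symm
      exact Nat.Coprime.coprime_dvd_left h2 h3
    · intro hc
      rw [MonoidHom.mem_ker]
      obtain ⟨k, hk⟩ := Z.2 (MonoidHom.transferSylow Z hP c)
      have h2 : orderOf (MonoidHom.transferSylow Z hP c) ∣ p ^ k := orderOf_dvd_of_pow_eq_one hk
      have h3 : orderOf (MonoidHom.transferSylow Z hP c) ∣ orderOf c := orderOf_map_dvd _ c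
      have h4 : (orderOf c).Coprime (p ^ k) := Nat.Coprime.pow_right k hc
      have h5 : orderOf (MonoidHom.transferSylow Z hP c) = 1 :=
        Nat.eq_one_of_dvd_coprimes h4 h3 h2
      exact orderOf_eq_one_iff.mp h5
  let K : Subgroup N := (MonoidHom.transferSylow Z hP).ker.map C.subtype
  have hK : ∀ g : N, g ∈ K ↔ (orderOf g).Coprime p := by
    intro g
    constructor
    · rintro ⟨c, hc, rfl⟩
      have := (hK₀ c).mp hc
      rwa [← Subgroup.orderOf_coe] at this
    · intro hg
      refine ⟨⟨g, h1 g hg⟩, ?_, rfl⟩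
      refine (hK₀ _).mpr ?_
      rw [← Subgroup.orderOf_coe]
      exact hg
  have hKn : K.Normal := by
    refine ⟨fun g hg n => ?_⟩
    rw [hK] at hg ⊢
    have : orderOf (n * g * n⁻¹) = orderOf g := by
      have := MulEquiv.orderOf_eq (MulAut.conj n) g
      rwa [MulAut.conj_apply] at this
    rw [this]
    exact hg
  have hKcop : (Nat.card K).Coprime p := by
    rw [Nat.coprime_comm, Nat.Prime.coprime_iff_not_dvd hp]
    intro hdvd
    obtain ⟨x, hx⟩ := exists_prime_orderOf_dvd_card' p hdvd
    have hx' : (orderOf (x : N)).Coprime p := (hK x).mp x.2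
    rw [Subgroup.orderOf_coe, hx] at hx'
    exact hp.one_lt.ne' ((Nat.coprime_self p).mp hx')
  have hquot : IsPGroup p (N ⧸ K) := by
    intro x
    induction x using QuotientGroup.induction_on with
    | H g =>
      have hpos : 0 < orderOf g := orderOf_pos g
      obtain ⟨k, m, hm, hkm⟩ := Nat.exists_eq_pow_mul_and_not_dvd hpos.ne' p hp.ne_one
      refine ⟨k, ?_⟩
      rw [← QuotientGroup.mk_pow, QuotientGroup.eq_one_iff, hK]
      have h2 : orderOf (g ^ p ^ k) ∣ m := by
        apply orderOf_dvd_of_pow_eq_one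
        rw [← pow_mul, ← hkm]
        exact pow_orderOf_eq_one g
      exact Nat.Coprime.coprime_dvd_left h2 ((Nat.Prime.coprime_iff_not_dvd hp).mpr hm).symm
  obtain ⟨n, hn⟩ := hquot.exists_card_eq
  have hidx : K.index = p ^ n := by rw [Subgroup.index_eq_card]; exact hn
  have hcard : Nat.card K * p ^ n = Nat.card N := by rw [← hidx]; exact Subgroup.card_mul_index K
  let P : Sylow p N := default
  have hPcard : Nat.card P = p ^ n := by
    rw [Sylow.card_eq_multiplicity, ← hcard]
    congr 1
    have hK0 : Nat.card K ≠ 0 := Nat.card_pos.ne'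
    rw [Nat.factorization_mul hK0 (pow_ne_zero n hp.ne_zero)]
    have h0 : (Nat.card K).factorization p = 0 :=
      Nat.factorization_eq_zero_of_not_dvd (by
        intro hd
        exact (Nat.Prime.coprime_iff_not_dvd hp).mp hKcop.symm hd)
    simp [h0, hp.factorization_pow]
  refine ⟨P, K, hKn, ?_⟩
  apply Subgroup.isComplement'_of_coprime
  · rw [hPcard]; exact hcard
  · rw [hPcard]; exact Nat.Coprime.pow_right n hKcop

end Cfsg.Agent.Lib.Helper34.PComplement
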