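import Mathlib
import Cfsg.Agent.Lib.Helper44.PGStmt
import Cfsg.Agent.Lib.Helper44.NegPairs

set_option autoImplicit false

/-! Common lemmas for the four sufficiency pieces `BSUF1`–`BSUF4` of S2474 (helper44's call):
torus blocks, the rotation block of order `4`, block sums of coprime orders, and the transport
into `Ω(2n+1, q)` (odd order, or the square of an element of even order). -/

namespace Cfsg.Agent.Lib.Helper34.PGBSUFCore

open Matrix Polynomial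
open Cfsg.Agent.Lib.Helper44.QSpace Cfsg.Agent.Lib.Helper44.OGroup Cfsg.Agent.Lib.Helper44.OMat
open Cfsg.Agent.Lib.Helper44.OExt Cfsg.Agent.Lib.Helper40.RecipPoly
open Cfsg.Agent.Lib.Helper44.PGStmt

universe u

theorem two_ne (F : Type u) [Field F] (p : ℕ) [Fact p.Prime] [CharP F p] (hp2 : p ≠ 2) :
    (2 : F) ≠ 0 := by
  intro h
  have h' : ((2 : ℕ) : F) = 0 := by exact_mod_cast h
  rw [CharP.cast_eq_zero_iff F p] at h'
  have h1 := Nat.le_of_dvd (by norm_num) h'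
  have h2 := (Fact.out : p.Prime).two_le
  omega

theorem unip_order {M : Type*} [Monoid M] (U : M) (p : ℕ) (hp : p.Prime) (h1 : U ^ p = 1)
    (hne : U ≠ 1) (j : ℕ) : U ^ j = 1 ↔ p ∣ j := by
  have h := orderOf_dvd_of_pow_eq_one h1
  have h' : orderOf U = p := by
    rcases (Nat.dvd_prime hp).1 h with h | h
    · exact absurd (orderOf_eq_one_iff.1 h) hne
    · exact h
  rw [← h', orderOf_dvd_iff_pow_eq_one]

/-- A torus block of rank `k` containing an isometry of order exactly `K`. -/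
theorem tor_block (hM : OTorMinus.{u}) (hP : OTorPlus.{u}) (F : Type u) [Field F] [Fintype F]
    (h2 : (2 : F) ≠ 0) (k K : ℕ) (hk : 1 ≤ k) (hT : Tor (Fintype.card F) k K) :
    ∃ (κ : Type) (_ : Fintype κ) (_ : DecidableEq κ) (N s : Matrix κ κ F),
      Fintype.card κ = 2 * k ∧ (N + Nᵀ).det ≠ 0 ∧ (∀ u, qN N (s *ᵥ u) = qN N u) ∧
      ∀ j : ℕ, s ^ j = 1 ↔ K ∣ j := by
  rcases hT with h | h
  · exact hM F h2 k K hk h
  · exact hP F h2 k K hk h

/-- The rotation of order `4` of the plane with form `x₀² + x₁²`. -/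
theorem rot_block (F : Type u) [Field F] (h2 : (2 : F) ≠ 0) :
    ∃ (N s : Matrix (Fin 2) (Fin 2) F), (N + Nᵀ).det ≠ 0 ∧ (∀ u, qN N (s *ᵥ u) = qN N u) ∧
      ∀ j : ℕ, s ^ j = 1 ↔ 4 ∣ j := by
  have hs2 : (!![0, -1; 1, 0] : Matrix (Fin 2) (Fin 2) F) ^ 2 = -1 := by
    ext i k
    fin_cases i <;> fin_cases k <;> simp [pow_two, Matrix.mul_apply, Fin.sum_univ_two]
  have hs4 : (!![0, -1; 1, 0] : Matrix (Fin 2) (Fin 2) F) ^ 4 = 1 := by
    have h : (!![0, -1; 1, 0] : Matrix (Fin 2) (Fin 2) F) ^ 4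
        = ((!![0, -1; 1, 0] : Matrix (Fin 2) (Fin 2) F) ^ 2) ^ 2 := by rw [← pow_mul]
    rw [h, hs2]; simp
  refine ⟨1, !![0, -1; 1, 0], ?_, ?_, ?_⟩
  · rw [transpose_one, Matrix.det_fin_two]
    simp
    intro h
    apply h2
    linear_combination h
  · intro u
    rw [qN_apply, qN_apply]
    simp [Matrix.mulVec, dotProduct, Fin.sum_univ_two]
    ring
  · intro j
    constructor
    · intro h
      have hj : (!![0, -1; 1, 0] : Matrix (Fin 2) (Fin 2) F) ^ (j % 4) = 1 := by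
        have h' := Nat.div_add_mod j 4
        rw [← h', pow_add, pow_mul, hs4, one_pow, one_mul] at h
        exact h
      have hlt : j % 4 < 4 := Nat.mod_lt _ (by norm_num)
      have hcases : j % 4 = 0 ∨ j % 4 = 1 ∨ j % 4 = 2 ∨ j % 4 = 3 := by omega
      rcases hcases with hr | hr | hr | hr
      · exact Nat.dvd_of_mod_eq_zero hr
      · exfalso
        rw [hr, pow_one] at hj
        have h00 := congrFun (congrFun hj 0) 0
        simp at h00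
      · exfalso
        rw [hr, hs2] at hj
        have h00 := congrFun (congrFun hj 0) 0
        simp at h00
        apply h2
        linear_combination (-1 : F) * h00
      · exfalso
        rw [hr, pow_succ, hs2] at hj
        have h00 := congrFun (congrFun hj 0) 1
        simp at h00
    · rintro ⟨c, rfl⟩
      rw [pow_mul, hs4, one_pow]

/-- Orthogonal sum of two blocks carrying isometries of coprime orders. -/
theorem sum_block (hSum : BlockSum.{u}) (F : Type u) [Field F] (κ₁ κ₂ : Type) [Fintype κ₁]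
    [DecidableEq κ₁] [Fintype κ₂] [DecidableEq κ₂] (N₁ s₁ : Matrix κ₁ κ₁ F)
    (N₂ s₂ : Matrix κ₂ κ₂ F) (hd₁ : (N₁ + N₁ᵀ).det ≠ 0) (hd₂ : (N₂ + N₂ᵀ).det ≠ 0)
    (hi₁ : ∀ u, qN N₁ (s₁ *ᵥ u) = qN N₁ u) (hi₂ : ∀ u, qN N₂ (s₂ *ᵥ u) = qN N₂ u)
    (m₁ m₂ : ℕ) (h₁ : ∀ j : ℕ, s₁ ^ j = 1 ↔ m₁ ∣ j) (h₂ : ∀ j : ℕ, s₂ ^ j = 1 ↔ m₂ ∣ j)
    (hcop : Nat.Coprime m₁ m₂) :
    ∃ (κ : Type) (_ : Fintype κ) (_ : DecidableEq κ) (N s : Matrix κ κ F),
      Fintype.card κ = Fintype.card κ₁ + Fintype.card κ₂ ∧ (N + Nᵀ).det ≠ 0 ∧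
      (∀ u, qN N (s *ᵥ u) = qN N u) ∧ ∀ j : ℕ, s ^ j = 1 ↔ m₁ * m₂ ∣ j := by
  obtain ⟨ha, hb, hc⟩ := hSum F κ₁ κ₂ N₁ s₁ N₂ s₂ hd₁ hd₂ hi₁ hi₂
  refine ⟨κ₁ ⊕ κ₂, inferInstance, inferInstance, fromBlocks N₁ 0 0 N₂, fromBlocks s₁ 0 0 s₂,
    Fintype.card_sum, ha, hb, fun j => ?_⟩
  rw [hc, h₁, h₂]
  constructor
  · rintro ⟨x, y⟩
    exact hcop.mul_dvd_of_dvd_of_dvd x y
  · intro h
    exact ⟨dvd_trans (dvd_mul_right _ _) h, dvd_trans (dvd_mul_left _ _) h⟩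

/-- An isometry of odd order `m` of a space of dimension `≤ 2n+1` gives an element of order `m`
of `Ω(2n+1, q)`. -/
theorem hasB_of_odd (hEmb : OEmbed.{u}) (hSq : SqMem.{u}) (F : Type u) [Field F] [Fintype F]
    (h2 : (2 : F) ≠ 0) (n : ℕ) (κ : Type) [Fintype κ] [DecidableEq κ] (N s : Matrix κ κ F)
    (hc : Fintype.card κ ≤ 2 * n + 1) (hdet : (N + Nᵀ).det ≠ 0)
    (hiso : ∀ u, qN N (s *ᵥ u) = qN N u) (m : ℕ) (hm : ∀ j : ℕ, s ^ j = 1 ↔ m ∣ j)
    (hodd : Odd m) : HasB F n m := by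
  obtain ⟨g, hg⟩ := hEmb F h2 n κ N s hc hdet hiso
  have hord : orderOf g = m := by
    apply Nat.dvd_antisymm
    · exact orderOf_dvd_of_pow_eq_one ((hg m).2 ((hm m).2 dvd_rfl))
    · exact (hm _).1 ((hg _).1 (pow_orderOf_eq_one g))
  refine ⟨g, ?_, hord⟩
  have hsq : g ^ 2 ∈ Cfsg.Omega F (Cfsg.quadFormOdd n F) :=
    hSq F _ (Cfsg.Agent.Lib.Helper44.NegPairs.oddQ n F) h2
      (Cfsg.Agent.Lib.Helper44.NegPairs.sep_oddQ h2 n) g
  obtain ⟨t, ht⟩ := hodd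
  have hgt : g = (g ^ 2) ^ (t + 1) := by
    rw [← pow_mul]
    have h' : 2 * (t + 1) = m + 1 := by omega
    rw [h', pow_succ, ← hord, pow_orderOf_eq_one, one_mul]
  rw [hgt]
  exact Subgroup.pow_mem _ hsq _

/-- The square of an isometry of order `2m` of a space of dimension `≤ 2n+1` gives an element of
order `m` of `Ω(2n+1, q)`. -/
theorem hasB_of_half (hEmb : OEmbed.{u}) (hSq : SqMem.{u}) (F : Type u) [Field F] [Fintype F]
    (h2 : (2 : F) ≠ 0) (n : ℕ) (κ : Type) [Fintype κ] [DecidableEq κ] (N s : Matrix κ κ F)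
    (hc : Fintype.card κ ≤ 2 * n + 1) (hdet : (N + Nᵀ).det ≠ 0)
    (hiso : ∀ u, qN N (s *ᵥ u) = qN N u) (m : ℕ) (hm : ∀ j : ℕ, s ^ j = 1 ↔ 2 * m ∣ j) :
    HasB F n m := by
  obtain ⟨g, hg⟩ := hEmb F h2 n κ N s hc hdet hiso
  have hsq : g ^ 2 ∈ Cfsg.Omega F (Cfsg.quadFormOdd n F) :=
    hSq F _ (Cfsg.Agent.Lib.Helper44.NegPairs.oddQ n F) h2
      (Cfsg.Agent.Lib.Helper44.NegPairs.sep_oddQ h2 n) g
  refine ⟨g ^ 2, hsq, ?_⟩
  apply Nat.dvd_antisymm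
  · apply orderOf_dvd_of_pow_eq_one
    rw [← pow_mul]
    exact (hg _).2 ((hm _).2 dvd_rfl)
  · have h := (hm _).1 ((hg _).1 (by rw [pow_mul]; exact pow_orderOf_eq_one (g ^ 2)))
    exact (Nat.mul_dvd_mul_iff_left (by norm_num)).1 h

end Cfsg.Agent.Lib.Helper34.PGBSUFCore
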