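import Mathlib
import Cfsg.Agent.Lib.Helper44.PGStmt
import Cfsg.Agent.Lib.Helper34.PGBSUFCore

set_option autoImplicit false

namespace Cfsg.Agent.Lib.Helper34.PGBSUF1

open Matrix Polynomial
open Cfsg.Agent.Lib.Helper44.QSpace Cfsg.Agent.Lib.Helper44.OGroup Cfsg.Agent.Lib.Helper44.OMat
open Cfsg.Agent.Lib.Helper44.OExt Cfsg.Agent.Lib.Helper40.RecipPoly
open Cfsg.Agent.Lib.Helper44.PGStmt Cfsg.Agent.Lib.Helper34.PGBSUFCore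

universe u

/-- [BSUF1] `CritI` gives an element of order `r * s` of `Ω(2n+1, q)`: two torus blocks (or one),
embedded, of odd order. -/
theorem main (hM : OTorMinus.{u}) (hP : OTorPlus.{u}) (hSum : BlockSum.{u}) (hEmb : OEmbed.{u})
    (hSq : SqMem.{u}) : BSufI.{u} := by
  intro F _ _ p _ _ hp2 n hn r s hr hs hrs hr2 hs2 hrp hsp hcrit
  have h2 : (2 : F) ≠ 0 := two_ne F p hp2
  have hodd : Odd (r * s) := (hr.odd_of_ne_two hr2).mul (hs.odd_of_ne_two hs2)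
  rcases hcrit with ⟨k₁, k₂, hk₁, hk₂, hle, hT₁, hT₂⟩ | ⟨k, hk, hkn, hT⟩
  · obtain ⟨κ₁, _, _, N₁, s₁, hc₁, hd₁, hi₁, ho₁⟩ := tor_block hM hP F h2 k₁ r hk₁ hT₁
    obtain ⟨κ₂, _, _, N₂, s₂, hc₂, hd₂, hi₂, ho₂⟩ := tor_block hM hP F h2 k₂ s hk₂ hT₂
    obtain ⟨κ, _, _, N, t, hc, hd, hi, ho⟩ := sum_block hSum F κ₁ κ₂ N₁ s₁ N₂ s₂ hd₁ hd₂ hi₁ hi₂
      r s ho₁ ho₂ ((Nat.coprime_primes hr hs).2 hrs)
    exact hasB_of_odd hEmb hSq F h2 n κ N t (by omega) hd hi (r * s) ho hodd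
  · obtain ⟨κ, _, _, N, t, hc, hd, hi, ho⟩ := tor_block hM hP F h2 k (r * s) hk hT
    exact hasB_of_odd hEmb hSq F h2 n κ N t (by omega) hd hi (r * s) ho hodd

end Cfsg.Agent.Lib.Helper34.PGBSUF1
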