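import Mathlib
import Cfsg.Agent.Lib.Helper44.PGStmt
import Cfsg.Agent.Lib.Helper34.PGBSUFCore

set_option autoImplicit false

namespace Cfsg.Agent.Lib.Helper34.PGBSUF2

open Matrix Polynomial
open Cfsg.Agent.Lib.Helper44.QSpace Cfsg.Agent.Lib.Helper44.OGroup Cfsg.Agent.Lib.Helper44.OMat
open Cfsg.Agent.Lib.Helper44.OExt Cfsg.Agent.Lib.Helper40.RecipPoly
open Cfsg.Agent.Lib.Helper44.PGStmt Cfsg.Agent.Lib.Helper34.PGBSUFCore

universe u

/-- [BSUF2] `CritII` gives an element of order `p * s` of `Ω(2n+1, q)`: the unipotent block of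
dimension `3` plus a torus block, embedded, of odd order. -/
theorem main (hM : OTorMinus.{u}) (hP : OTorPlus.{u}) (hSum : BlockSum.{u}) (hEmb : OEmbed.{u})
    (hSq : SqMem.{u}) (hU : Unip3.{u}) : BSufII.{u} := by
  intro F _ _ p _ _ hp2 n hn s hs hs2 hsp hcrit
  have h2 : (2 : F) ≠ 0 := two_ne F p hp2
  have hpp : p.Prime := Fact.out
  obtain ⟨k, hk, hkn, hT⟩ := hcrit
  obtain ⟨N₁, U, hd₁, hi₁, hUp, hUne⟩ := hU F p h2
  obtain ⟨κ₂, _, _, N₂, s₂, hc₂, hd₂, hi₂, ho₂⟩ := tor_block hM hP F h2 k s hk hT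
  obtain ⟨κ, _, _, N, t, hc, hd, hi, ho⟩ := sum_block hSum F (Fin 3) κ₂ N₁ U N₂ s₂ hd₁ hd₂ hi₁
    hi₂ p s (unip_order U p hpp hUp hUne) ho₂ ((Nat.coprime_primes hpp hs).2 (Ne.symm hsp))
  have hcard : Fintype.card κ ≤ 2 * n + 1 := by
    rw [hc, hc₂, Fintype.card_fin]; omega
  exact hasB_of_odd hEmb hSq F h2 n κ N t hcard hd hi (p * s) ho
    ((hpp.odd_of_ne_two hp2).mul (hs.odd_of_ne_two hs2))

end Cfsg.Agent.Lib.Helper34.PGBSUF2
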