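import Mathlib
import Cfsg.Agent.Lib.Helper44.PGStmt
import Cfsg.Agent.Lib.Helper34.PGBSUFCore

set_option autoImplicit false

namespace Cfsg.Agent.Lib.Helper34.PGBSUF3

open Matrix Polynomial
open Cfsg.Agent.Lib.Helper44.QSpace Cfsg.Agent.Lib.Helper44.OGroup Cfsg.Agent.Lib.Helper44.OMat
open Cfsg.Agent.Lib.Helper44.OExt Cfsg.Agent.Lib.Helper40.RecipPoly
open Cfsg.Agent.Lib.Helper44.PGStmt Cfsg.Agent.Lib.Helper34.PGBSUFCore

universe u

/-- [BSUF3] `Ω(2n+1, q)` has an element of order `2 * p`: the square of (unipotent block of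
dimension `3`) ⊕ (rotation of order `4`). -/
theorem main (hSum : BlockSum.{u}) (hEmb : OEmbed.{u}) (hSq : SqMem.{u}) (hU : Unip3.{u}) :
    BIII.{u} := by
  intro F _ _ p _ _ hp2 n hn
  have h2 : (2 : F) ≠ 0 := two_ne F p hp2
  have hpp : p.Prime := Fact.out
  obtain ⟨N₁, U, hd₁, hi₁, hUp, hUne⟩ := hU F p h2
  obtain ⟨N₂, s₂, hd₂, hi₂, ho₂⟩ := rot_block F h2
  have hcop : Nat.Coprime p 4 := by
    have h := Nat.Coprime.pow_right 2 ((Nat.coprime_primes hpp Nat.prime_two).2 hp2)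
    simpa using h
  obtain ⟨κ, _, _, N, t, hc, hd, hi, ho⟩ := sum_block hSum F (Fin 3) (Fin 2) N₁ U N₂ s₂ hd₁ hd₂
    hi₁ hi₂ p 4 (unip_order U p hpp hUp hUne) ho₂ hcop
  have hcard : Fintype.card κ ≤ 2 * n + 1 := by
    rw [hc, Fintype.card_fin, Fintype.card_fin]; omega
  refine hasB_of_half hEmb hSq F h2 n κ N t hcard hd hi (2 * p) (fun j => ?_)
  rw [ho j]
  have h4 : p * 4 = 2 * (2 * p) := by ring
  rw [h4]

end Cfsg.Agent.Lib.Helper34.PGBSUF3
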