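import Mathlib
import Cfsg.Agent.Lib.Helper44.PGStmt
import Cfsg.Agent.Lib.Helper34.PGBSUFCore

set_option autoImplicit false

namespace Cfsg.Agent.Lib.Helper34.PGBSUF4

open Matrix Polynomial
open Cfsg.Agent.Lib.Helper44.QSpace Cfsg.Agent.Lib.Helper44.OGroup Cfsg.Agent.Lib.Helper44.OMat
open Cfsg.Agent.Lib.Helper44.OExt Cfsg.Agent.Lib.Helper40.RecipPoly
open Cfsg.Agent.Lib.Helper44.PGStmt Cfsg.Agent.Lib.Helper34.PGBSUFCore

universe u

/-- [BSUF4] `CritIV` gives an element of order `2 * r` of `Ω(2n+1, q)`: the square of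
(torus block of order `r`) ⊕ (rotation of order `4`), or of a torus element of order `4 * r`. -/
theorem main (hM : OTorMinus.{u}) (hP : OTorPlus.{u}) (hSum : BlockSum.{u}) (hEmb : OEmbed.{u})
    (hSq : SqMem.{u}) : BSufIV.{u} := by
  intro F _ _ p _ _ hp2 n hn r hr hr2 hrp hcrit
  have h2 : (2 : F) ≠ 0 := two_ne F p hp2
  rcases hcrit with ⟨k, hk, hkn, hT⟩ | hT
  · obtain ⟨κ₁, _, _, N₁, s₁, hc₁, hd₁, hi₁, ho₁⟩ := tor_block hM hP F h2 k r hk hT
    obtain ⟨N₂, s₂, hd₂, hi₂, ho₂⟩ := rot_block F h2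
    have hcop : Nat.Coprime r 4 := by
      have h := Nat.Coprime.pow_right 2 ((Nat.coprime_primes hr Nat.prime_two).2 hr2)
      simpa using h
    obtain ⟨κ, _, _, N, t, hc, hd, hi, ho⟩ := sum_block hSum F κ₁ (Fin 2) N₁ s₁ N₂ s₂ hd₁ hd₂
      hi₁ hi₂ r 4 ho₁ ho₂ hcop
    have hcard : Fintype.card κ ≤ 2 * n + 1 := by
      rw [hc, hc₁, Fintype.card_fin]; omega
    refine hasB_of_half hEmb hSq F h2 n κ N t hcard hd hi (2 * r) (fun j => ?_)
    rw [ho j]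
    have h4 : r * 4 = 2 * (2 * r) := by ring
    rw [h4]
  · obtain ⟨κ, _, _, N, t, hc, hd, hi, ho⟩ := tor_block hM hP F h2 n (4 * r) (by omega) hT
    refine hasB_of_half hEmb hSq F h2 n κ N t (by omega) hd hi (2 * r) (fun j => ?_)
    rw [ho j]
    have h4 : 4 * r = 2 * (2 * r) := by ring
    rw [h4]

end Cfsg.Agent.Lib.Helper34.PGBSUF4
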