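import Mathlib
import Cfsg.Agent.Lib.Helper7.ReeSolvStmt

/-!
# S2361 / TWOFOUR (helper34): `F` of order 4 normal and self-centralizing in `L`
-/

set_option autoImplicit false

namespace Cfsg.Agent.Lib.Helper34.RSTWOFOUR

open Cfsg.Agent.Lib.Helper42.ReeSpStmt Cfsg.Agent.Lib.Helper18.ReeHallStmt
  Cfsg.Agent.Lib.Helper7.ReeSolvStmt

universe u

/-- two commuting-forcing involutions -/
theorem comm_of_sq {G : Type u} [Group G] (y f : G) (hy : y ^ 2 = 1) (hf : f ^ 2 = 1)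
    (hyf : (y * f) ^ 2 = 1) : y * f = f * y := by
  have a : y * f * (y * f) = 1 := by rw [← pow_two]; exact hyf
  have b : y * y = 1 := by rw [← pow_two]; exact hy
  have c : f * f = 1 := by rw [← pow_two]; exact hf
  have iy : y⁻¹ = y := inv_eq_of_mul_eq_one_left b
  have if_ : f⁻¹ = f := inv_eq_of_mul_eq_one_left c
  have iyf : (y * f)⁻¹ = y * f := inv_eq_of_mul_eq_one_left a
  calc y * f = (y * f)⁻¹ := iyf.symm
    _ = f⁻¹ * y⁻¹ := mul_inv_rev y f
    _ = f * y := by rw [iy, if_]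

/-- (i) cubes of elements of `L` lie in `F` -/
theorem cube_mem {G : Type u} [Group G] [Finite G] (hE : Exp2C G) (L F : Subgroup G)
    (hN : L ≤ Subgroup.normalizer (F : Set G)) (hF : Nat.card ↥F = 4)
    (hC : ∀ x ∈ L, (∀ f ∈ F, x * f = f * x) → x ∈ F) : ∀ x ∈ L, x ^ 3 ∈ F := by
  intro x hx
  have hF2 : ∀ f ∈ F, f ^ 2 = 1 := by
    intro f hf
    apply hE f ⟨2, ?_⟩
    have h0 := pow_card_eq_one' (G := ↥F) (x := ⟨f, hf⟩)
    rw [hF] at h0
    have h1 := congrArg Subtype.val h0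
    simpa using h1
  have hconj : ∀ (n : ℕ), ∀ f ∈ F, x ^ n * f * (x ^ n)⁻¹ ∈ F := by
    intro n f hf
    exact (Subgroup.mem_normalizer_iff.1 (hN (L.pow_mem hx n)) f).1 hf
  have hconj1 : ∀ f ∈ F, x * f * x⁻¹ ∈ F := by
    intro f hf
    simpa using hconj 1 f hf
  have hconj1' : ∀ f ∈ F, x⁻¹ * f * x ∈ F := by
    intro f hf
    refine (Subgroup.mem_normalizer_iff.1 (hN hx) _).2 ?_
    have e : x * (x⁻¹ * f * x) * x⁻¹ = f := by group
    rw [e]; exact hf
  let e : Equiv.Perm ↥F :=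
    { toFun := fun f => ⟨x * f * x⁻¹, hconj1 f f.2⟩
      invFun := fun f => ⟨x⁻¹ * f * x, hconj1' f f.2⟩
      left_inv := fun f => Subtype.ext (by simp [mul_assoc])
      right_inv := fun f => Subtype.ext (by simp [mul_assoc]) }
  have hpow : ∀ (n : ℕ) (f : ↥F), (((e ^ n) f : ↥F) : G) = x ^ n * f * (x ^ n)⁻¹ := by
    intro n
    induction n with
    | zero => intro f; simp
    | succ n ih =>
      intro f
      rw [pow_succ', Equiv.Perm.mul_apply]
      show x * (((e ^ n) f : ↥F) : G) * x⁻¹ = _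
      rw [ih, pow_succ']
      group
  have h24 : e ^ 24 = 1 := by
    have h1 : Nat.card (Equiv.Perm ↥F) = 24 := by
      rw [Nat.card_perm, hF]; rfl
    have h2 := pow_card_eq_one' (G := Equiv.Perm ↥F) (x := e)
    rwa [h1] at h2
  have hx24 : x ^ 24 ∈ F := by
    apply hC _ (L.pow_mem hx 24)
    intro f hf
    have h0 := hpow 24 ⟨f, hf⟩
    rw [h24] at h0
    have h1 : f = x ^ 24 * f * (x ^ 24)⁻¹ := by simpa using h0
    calc x ^ 24 * f = (x ^ 24 * f * (x ^ 24)⁻¹) * x ^ 24 := by group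
      _ = f * x ^ 24 := by rw [← h1]
  have hy2 : (x ^ 3) ^ 2 = 1 := by
    apply hE _ ⟨5, ?_⟩
    have h0 := hF2 _ hx24
    rw [← pow_mul] at h0 ⊢
    have e96 : 3 * 2 ^ 5 = 24 * 2 * 2 := by norm_num
    rw [e96, pow_mul, h0, one_pow]
  apply hC _ (L.pow_mem hx 3)
  intro f hf
  have hyf : x ^ 3 * f * (x ^ 3)⁻¹ ∈ F := hconj 3 f hf
  have iy : (x ^ 3)⁻¹ = x ^ 3 :=
    inv_eq_of_mul_eq_one_left (by rw [← pow_two]; exact hy2)
  have h1 : (x ^ 3 * f) ^ 2 = 1 := by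
    apply hE _ ⟨2, ?_⟩
    have e1 : (x ^ 3 * f) ^ 2 = (x ^ 3 * f * (x ^ 3)⁻¹) * f := by
      rw [pow_two, iy]; group
    have hm : (x ^ 3 * f) ^ 2 ∈ F := by rw [e1]; exact F.mul_mem hyf hf
    have h0 := hF2 _ hm
    rw [← pow_mul] at h0
    exact h0
  exact comm_of_sq _ _ hy2 (hF2 f hf) h1

theorem main : TwoFour.{u} := by
  intro G _ _ hE L F hFL hN hF hC h3
  have hcube := cube_mem hE L F hN hF hC
  -- the action of `L` on the Sylow 2-subgroups containing `F`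
  have hsm : ∀ (x : ↥L) (P : Sylow 2 G), F ≤ (P : Subgroup G) →
      F ≤ (((x : G) • P : Sylow 2 G) : Subgroup G) := by
    intro x P hP f hf
    rw [Sylow.coe_subgroup_smul, Subgroup.mem_pointwise_smul_iff_inv_smul_mem]
    apply hP
    have hxi : (x : G)⁻¹ ∈ Subgroup.normalizer (F : Set G) := hN (L.inv_mem x.2)
    have h0 := (Subgroup.mem_normalizer_iff.1 hxi f).1 hf
    simpa [MulAut.smul_def] using h0
  let act : MulAction ↥L {P : Sylow 2 G // F ≤ (P : Subgroup G)} :=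
    { smul := fun x P => ⟨(x : G) • P.1, hsm x P.1 P.2⟩
      one_smul := fun P => Subtype.ext (one_smul G P.1)
      mul_smul := fun x y P => Subtype.ext (mul_smul (x : G) (y : G) P.1) }
  have hact : ∀ (x : ↥L) (P : {P : Sylow 2 G // F ≤ (P : Subgroup G)}),
      ((x • P : {P : Sylow 2 G // F ≤ (P : Subgroup G)}) : Sylow 2 G) = (x : G) • P.1 :=
    fun x P => rfl
  let ρ := MulAction.toPermHom ↥L {P : Sylow 2 G // F ≤ (P : Subgroup G)}
  have hK : IsPGroup 3 ↥ρ.range := by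
    rintro ⟨_, x, rfl⟩
    refine ⟨1, Subtype.ext ?_⟩
    rw [pow_one]
    show (ρ x) ^ 3 = 1
    rw [← map_pow]
    apply Equiv.ext
    intro P
    show (x ^ 3) • P = P
    apply Subtype.ext
    rw [hact]
    rw [Sylow.smul_eq_iff_mem_normalizer]
    have h0 : ((x ^ 3 : ↥L) : G) ∈ F := by
      rw [Subgroup.coe_pow]; exact hcube _ x.2
    exact Subgroup.le_normalizer (P.2 h0)
  have : Fact (Nat.Prime 3) := ⟨by norm_num⟩
  obtain ⟨P, hP⟩ := hK.nonempty_fixed_point_of_prime_not_dvd_card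
    {P : Sylow 2 G // F ≤ (P : Subgroup G)} h3
  refine ⟨P.1, fun x hx => ?_⟩
  have h0 : (⟨ρ ⟨x, hx⟩, ⟨_, rfl⟩⟩ : ↥ρ.range) • P = P := hP _
  have h1 : (⟨x, hx⟩ : ↥L) • P = P := h0
  have h2 := congrArg Subtype.val h1
  rw [hact] at h2
  exact Sylow.smul_eq_iff_mem_normalizer.1 h2

end Cfsg.Agent.Lib.Helper34.RSTWOFOUR
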