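import Mathlib
import Cfsg.Agent.Lib.Helper42.ReeAutStmt
import Cfsg.Agent.Lib.Helper34.ReeAutGEOB

set_option autoImplicit false

namespace Cfsg.Agent.Lib.Helper34.ReeAutALIGN

open Cfsg.Agent.Lib.Helper42.ReeSpStmt Cfsg.Agent.Lib.Helper42.ReeAutStmt
open Cfsg.Agent.Lib.Helper34.ReeAutGEOB

universe u

section
variable {G : Type u} [Group G] [Finite G] {U : Subgroup G}

theorem NU_mul {a b : G} (ha : NU U a) (hb : NU U b) : NU U (a * b) :=
  (nu_iff U _).2 (Subgroup.mul_mem _ ((nu_iff U a).1 ha) ((nu_iff U b).1 hb))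

theorem NU_inv {a : G} (ha : NU U a) : NU U a⁻¹ :=
  (nu_iff U _).2 (Subgroup.inv_mem _ ((nu_iff U a).1 ha))

omit [Finite G] in
theorem NU_of_mem {a : G} (ha : a ∈ U) : NU U a :=
  fun _ hv => U.mul_mem (U.mul_mem ha hv) (U.inv_mem ha)

/-- an automorphism mapping `U` into `U` maps `U` onto `U` -/
theorem aut_surj (β : MulAut G) (hβ : ∀ u ∈ U, β u ∈ U) : ∀ v ∈ U, ∃ u ∈ U, β u = v := by
  intro v hv
  let f : U → U := fun u => ⟨β u, hβ u u.2⟩
  have hf : Function.Injective f := by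
    intro a b hab
    have h1 : β (a : G) = β (b : G) := congrArg Subtype.val hab
    exact Subtype.ext (β.injective h1)
  obtain ⟨a, ha⟩ := (Finite.injective_iff_surjective.1 hf) ⟨v, hv⟩
  exact ⟨a, a.2, congrArg Subtype.val ha⟩

theorem aut_mem (β : MulAut G) (hβ : ∀ u ∈ U, β u ∈ U) (z : G) (hz : β z ∈ U) : z ∈ U := by
  obtain ⟨u, hu, h⟩ := aut_surj β hβ _ hz
  rw [← β.injective h]
  exact hu

/-- such an automorphism preserves `N(U)` -/
theorem aut_NU (β : MulAut G) (hβ : ∀ u ∈ U, β u ∈ U) (y : G) : NU U y ↔ NU U (β y) := by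
  constructor
  · intro h v hv
    obtain ⟨u, hu, rfl⟩ := aut_surj β hβ v hv
    have e : β y * β u * (β y)⁻¹ = β (y * u * y⁻¹) := by
      rw [map_mul, map_mul, map_inv]
    rw [e]
    exact hβ _ (h u hu)
  · intro h u hu
    apply aut_mem β hβ
    rw [map_mul, map_mul, map_inv]
    exact h _ (hβ u hu)

end

/-- [ALIGN] an automorphism can be corrected by an inner one to normalize `U` and `H`. -/
theorem main : AlignP.{u} := by
  intro G _ _ U H n hgeo α hex
  obtain ⟨g₀, hg₀⟩ := hex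
  let β : MulAut G := MulAut.conj g₀⁻¹ * α
  have hβ_apply : ∀ y, β y = g₀⁻¹ * α y * g₀ := by
    intro y
    simp [β]
  have hβU : ∀ u ∈ U, β u ∈ U := by
    intro u hu
    rw [hβ_apply]
    exact hg₀ u hu
  have hβn : ¬ NU U (β n) := fun h => hgeo.n_not ((aut_NU β hβU n).2 h)
  rcases hgeo.trans (β n) with h | ⟨u, hu, hb⟩
  · exact absurd h hβn
  let β' : MulAut G := MulAut.conj u⁻¹ * β
  have hβ'_apply : ∀ y, β' y = u⁻¹ * β y * u := by
    intro y
    simp [β']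
  have hβ'U : ∀ v ∈ U, β' v ∈ U := by
    intro v hv
    rw [hβ'_apply]
    exact U.mul_mem (U.mul_mem (U.inv_mem hu) (hβU v hv)) hu
  have hc : NU U (n⁻¹ * β' n) := by
    have e : n⁻¹ * β' n = (n⁻¹ * u⁻¹ * β n) * u := by
      rw [hβ'_apply]
      group
    rw [e]
    exact NU_mul hb (NU_of_mem hu)
  refine ⟨g₀ * u, ?_, ?_⟩
  · intro v hv
    have e : (g₀ * u)⁻¹ * α v * (g₀ * u) = β' v := by
      rw [hβ'_apply, hβ_apply]
      group
    rw [e]
    exact hβ'U v hv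
  · intro h hh
    have e : (g₀ * u)⁻¹ * α h * (g₀ * u) = β' h := by
      rw [hβ'_apply, hβ_apply]
      group
    rw [e]
    apply hgeo.stab
    · exact (aut_NU β' hβ'U h).1 (hgeo.hN h hh)
    · have e2 : n⁻¹ * β' h * n = (n⁻¹ * β' n) * β' (n⁻¹ * h * n) * (n⁻¹ * β' n)⁻¹ := by
        rw [map_mul, map_mul, map_inv]
        group
      rw [e2]
      exact NU_mul (NU_mul hc ((aut_NU β' hβ'U _).1 (hgeo.hN _ (hgeo.n_H h hh)))) (NU_inv hc)

end Cfsg.Agent.Lib.Helper34.ReeAutALIGN
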