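import Mathlib
import Cfsg.Agent.Lib.Helper73.S34Stmt

set_option autoImplicit false

namespace Cfsg.Agent.Lib.Helper34.S34ZCOUNT

open Cfsg Cfsg.Agent.Lib.Helper54.S68Stmt

universe u

/-- Elements of `K ⊔ Ks` are products when `K` and `Ks` commute elementwise. -/
theorem mem_sup_comm {G : Type u} [Group G] (K Ks : Subgroup G)
    (hc : ∀ a ∈ K, ∀ b ∈ Ks, a * b = b * a) {x : G} (hx : x ∈ K ⊔ Ks) :
    ∃ k ∈ K, ∃ s ∈ Ks, x = k * s := by
  let P : Subgroup G :=
    { carrier := {x | ∃ k ∈ K, ∃ s ∈ Ks, x = k * s}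
      mul_mem' := by
        rintro _ _ ⟨k, hk, s, hs, rfl⟩ ⟨k', hk', s', hs', rfl⟩
        refine ⟨k * k', K.mul_mem hk hk', s * s', Ks.mul_mem hs hs', ?_⟩
        have h := hc k' hk' s hs
        calc k * s * (k' * s') = k * (s * k') * s' := by group
          _ = k * (k' * s) * s' := by rw [← h]
          _ = k * k' * (s * s') := by group
      one_mem' := ⟨1, K.one_mem, 1, Ks.one_mem, by simp⟩
      inv_mem' := by
        rintro _ ⟨k, hk, s, hs, rfl⟩
        refine ⟨k⁻¹, K.inv_mem hk, s⁻¹, Ks.inv_mem hs, ?_⟩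
        have h := hc k⁻¹ (K.inv_mem hk) s⁻¹ (Ks.inv_mem hs)
        rw [mul_inv_rev, h] }
  have h : K ⊔ Ks ≤ P :=
    sup_le (fun k hk => ⟨k, hk, 1, Ks.one_mem, by simp⟩)
      (fun s hs => ⟨1, K.one_mem, s, hs, by simp⟩)
  exact h hx

/-- ZCOUNT: the exact number of conjugates of `Zhat`. -/
theorem main : Cfsg.Agent.Lib.Helper73.S34Stmt.ZCount.{u} := by
  intro G _ _ K Ks hK hKs hinf hab hTI
  classical
  set L := K ⊔ Ks with hL
  have hcomm : ∀ a ∈ K, ∀ b ∈ Ks, a * b = b * a := fun a ha b hb =>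
    hab a (Subgroup.mem_sup_left ha) b (Subgroup.mem_sup_right hb)
  let f : (G ⧸ L) × K × Ks → G :=
    fun p => p.1.out * ((p.2.1 : G) * (p.2.2 : G)) * (p.1.out)⁻¹
  let D : Set ((G ⧸ L) × K × Ks) := Set.univ ×ˢ (({1}ᶜ : Set K) ×ˢ ({1}ᶜ : Set Ks))
  have hD : D.ncard = L.index * ((Nat.card K - 1) * (Nat.card Ks - 1)) := by
    rw [Set.ncard_prod, Set.ncard_prod, Set.ncard_univ, Set.ncard_compl, Set.ncard_compl,
      Set.ncard_singleton, Set.ncard_singleton, Subgroup.index_eq_card]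
  have hcancel : ∀ k k' : K, ∀ s s' : Ks, (k : G) * s = (k' : G) * s' → k = k' ∧ s = s' := by
    intro k k' s s' h3
    have h4 : (k' : G)⁻¹ * k = (s' : G) * (s : G)⁻¹ := by
      calc (k' : G)⁻¹ * k = (k' : G)⁻¹ * ((k : G) * s) * (s : G)⁻¹ := by group
        _ = (k' : G)⁻¹ * ((k' : G) * s') * (s : G)⁻¹ := by rw [h3]
        _ = (s' : G) * (s : G)⁻¹ := by group
    have h5 : (k' : G)⁻¹ * k ∈ K ⊓ Ks :=
      ⟨K.mul_mem (K.inv_mem k'.2) k.2, by rw [h4]; exact Ks.mul_mem s'.2 (Ks.inv_mem s.2)⟩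
    rw [hinf, Subgroup.mem_bot] at h5
    have hkk : (k : G) = k' := by rw [inv_mul_eq_one] at h5; exact h5.symm
    have hss : (s : G) = s' := by rw [hkk] at h3; exact mul_left_cancel h3
    exact ⟨Subtype.ext hkk, Subtype.ext hss⟩
  have hZ : ∀ k : K, ∀ s : Ks, k ≠ 1 → s ≠ 1 → (k : G) * (s : G) ∈ Zhat K Ks := by
    intro k s hk hs
    refine ⟨Subgroup.mul_mem _ (Subgroup.mem_sup_left k.2) (Subgroup.mem_sup_right s.2), ?_⟩
    rintro (h | h)
    · have hsK : (s : G) ∈ K := by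
        have := K.mul_mem (K.inv_mem k.2) h
        simpa using this
      have : (s : G) ∈ K ⊓ Ks := ⟨hsK, s.2⟩
      rw [hinf, Subgroup.mem_bot] at this
      exact hs (Subtype.ext this)
    · have hkK : (k : G) ∈ Ks := by
        have := Ks.mul_mem h (Ks.inv_mem s.2)
        simpa using this
      have : (k : G) ∈ K ⊓ Ks := ⟨k.2, hkK⟩
      rw [hinf, Subgroup.mem_bot] at this
      exact hk (Subtype.ext this)
  have hinj : Set.InjOn f D := by
    rintro ⟨q, k, s⟩ ⟨-, hk, hs⟩ ⟨q', k', s'⟩ ⟨-, hk', hs'⟩ heq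
    have hk1 : k ≠ 1 := hk
    have hs1 : s ≠ 1 := hs
    have hk1' : k' ≠ 1 := hk'
    have hs1' : s' ≠ 1 := hs'
    have hz := hZ k s hk1 hs1
    have hz' := hZ k' s' hk1' hs1'
    have heq' : q.out * ((k : G) * (s : G)) * (q.out)⁻¹ =
        q'.out * ((k' : G) * (s' : G)) * (q'.out)⁻¹ := heq
    have h1 : (q'.out⁻¹ * q.out) * ((k : G) * s) * (q'.out⁻¹ * q.out)⁻¹ = (k' : G) * s' := by
      calc (q'.out⁻¹ * q.out) * ((k : G) * s) * (q'.out⁻¹ * q.out)⁻¹
          = q'.out⁻¹ * (q.out * ((k : G) * s) * q.out⁻¹) * q'.out := by group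
        _ = q'.out⁻¹ * (q'.out * ((k' : G) * s') * q'.out⁻¹) * q'.out := by rw [heq']
        _ = (k' : G) * s' := by group
    have h2 : q'.out⁻¹ * q.out ∈ L := hTI _ hz _ (by rw [h1]; exact hz')
    have hq : q = q' := by
      have : (q'.out : G ⧸ L) = (q.out : G ⧸ L) := QuotientGroup.eq.mpr h2
      rw [QuotientGroup.out_eq', QuotientGroup.out_eq'] at this
      exact this.symm
    subst hq
    have h3 : (k : G) * s = (k' : G) * s' := mul_left_cancel (mul_right_cancel heq')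
    obtain ⟨hk2, hs2⟩ := hcancel k k' s s' h3
    rw [hk2, hs2]
  have himg : f '' D = {a : G | ∃ g : G, ∃ z ∈ Zhat K Ks, a = g * z * g⁻¹} := by
    apply Set.Subset.antisymm
    · rintro _ ⟨⟨q, k, s⟩, ⟨-, hk, hs⟩, rfl⟩
      exact ⟨q.out, _, hZ k s hk hs, rfl⟩
    · rintro a ⟨g, z, hz, rfl⟩
      obtain ⟨k, hk, s, hs, rfl⟩ := mem_sup_comm K Ks hcomm hz.1
      have hk1 : (⟨k, hk⟩ : K) ≠ 1 := by
        intro h
        have h' : k = 1 := congrArg Subtype.val h
        apply hz.2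
        right
        rw [h', one_mul]
        exact hs
      have hs1 : (⟨s, hs⟩ : Ks) ≠ 1 := by
        intro h
        have h' : s = 1 := congrArg Subtype.val h
        apply hz.2
        left
        rw [h', mul_one]
        exact hk
      have hc : ((g : G ⧸ L)).out⁻¹ * g ∈ L := by
        have h' : ((((g : G ⧸ L)).out : G) : G ⧸ L) = (g : G ⧸ L) := QuotientGroup.out_eq' _
        exact QuotientGroup.eq.mp h'
      refine ⟨((g : G ⧸ L), ⟨k, hk⟩, ⟨s, hs⟩), ⟨Set.mem_univ _, hk1, hs1⟩, ?_⟩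
      show ((g : G ⧸ L)).out * (k * s) * ((g : G ⧸ L)).out⁻¹ = g * (k * s) * g⁻¹
      have hcz := hab _ hc _ hz.1
      calc ((g : G ⧸ L)).out * (k * s) * ((g : G ⧸ L)).out⁻¹
          = ((g : G ⧸ L)).out * ((k * s) * (((g : G ⧸ L)).out⁻¹ * g)) * g⁻¹ := by group
        _ = ((g : G ⧸ L)).out * ((((g : G ⧸ L)).out⁻¹ * g) * (k * s)) * g⁻¹ := by rw [hcz]
        _ = g * (k * s) * g⁻¹ := by group
  have hcardL : Nat.card L = Nat.card K * Nat.card Ks := by
    let φ : K × Ks → G := fun p => (p.1 : G) * (p.2 : G)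
    have hφ : Function.Injective φ := by
      rintro ⟨k, s⟩ ⟨k', s'⟩ h
      have h3 : (k : G) * s = (k' : G) * s' := h
      obtain ⟨hk2, hs2⟩ := hcancel k k' s s' h3
      rw [hk2, hs2]
    have hr : Set.range φ = (L : Set G) := by
      ext x
      constructor
      · rintro ⟨⟨k, s⟩, rfl⟩
        exact Subgroup.mul_mem _ (Subgroup.mem_sup_left k.2) (Subgroup.mem_sup_right s.2)
      · intro hx
        obtain ⟨k, hk, s, hs, rfl⟩ := mem_sup_comm K Ks hcomm hx
        exact ⟨(⟨k, hk⟩, ⟨s, hs⟩), rfl⟩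
    calc Nat.card L = (L : Set G).ncard := Nat.card_coe_set_eq _
      _ = (Set.range φ).ncard := by rw [hr]
      _ = Nat.card (K × Ks) := by
          rw [← Set.image_univ, Set.ncard_image_of_injective _ hφ, Set.ncard_univ]
      _ = Nat.card K * Nat.card Ks := Nat.card_prod _ _
  have hG : Nat.card G = L.index * (Nat.card K * Nat.card Ks) := by
    rw [← hcardL, Subgroup.index_mul_card]
  have hK2 : 2 ≤ Nat.card K := (Subgroup.one_lt_card_iff_ne_bot K).2 hK
  have hKs2 : 2 ≤ Nat.card Ks := (Subgroup.one_lt_card_iff_ne_bot Ks).2 hKs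
  have harith : Nat.card K * Nat.card Ks - Nat.card K - Nat.card Ks + 1
      = (Nat.card K - 1) * (Nat.card Ks - 1) := by
    obtain ⟨a, ha⟩ := Nat.exists_eq_add_of_le hK2
    obtain ⟨b, hb⟩ := Nat.exists_eq_add_of_le hKs2
    rw [ha, hb]
    have h1 : (2 + a) * (2 + b) = a * b + 2 * a + 2 * b + 4 := by ring
    have e1 : 2 + a - 1 = a + 1 := by omega
    have e2 : 2 + b - 1 = b + 1 := by omega
    have h2 : (2 + a - 1) * (2 + b - 1) = a * b + a + b + 1 := by
      rw [e1, e2]; ring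
    rw [h1, h2]
    omega
  rw [← himg, Set.InjOn.ncard_image hinj, hD, harith, hG]
  ring

end Cfsg.Agent.Lib.Helper34.S34ZCOUNT
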