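import Mathlib
import Cfsg.Agent.Lib.Helper93.S64Stmt
import Cfsg.Agent.Lib.Helper22.S56Stmt

/-!
# S1356 piece QUOT (call by helper22): `D'` centralizes `O / N`

`FrobMod` in `X ⧸ N` for `V = O.map π`, `K = D.map π`, `R' = R.map π`; `QuotPrime` gives the prime
action in the quotient.
-/

set_option autoImplicit false

namespace Cfsg.Agent.Lib.Helper34.S56QUOT

universe u

open Cfsg Cfsg.Agent.Lib.Helper93.S64Stmt Cfsg.Agent.Lib.Helper22.S56Stmt

/-- `D ⊔ R = D R` if `R` normalizes `D` -/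
theorem mem_sup_mul {X : Type u} [Group X] (D R : Subgroup X)
    (hR : R ≤ Subgroup.normalizer (D : Set X)) (x : X) (hx : x ∈ D ⊔ R) :
    ∃ d ∈ D, ∃ r ∈ R, x = d * r := by
  rw [Subgroup.sup_eq_closure] at hx
  induction hx using Subgroup.closure_induction with
  | mem y hy =>
    rcases hy with hy | hy
    · exact ⟨y, hy, 1, R.one_mem, by simp⟩
    · exact ⟨1, D.one_mem, y, hy, by simp⟩
  | one => exact ⟨1, D.one_mem, 1, R.one_mem, by simp⟩
  | mul y z _ _ ihy ihz =>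
    obtain ⟨d₁, hd₁, r₁, hr₁, rfl⟩ := ihy
    obtain ⟨d₂, hd₂, r₂, hr₂, rfl⟩ := ihz
    refine ⟨d₁ * (r₁ * d₂ * r₁⁻¹), D.mul_mem hd₁ ?_, r₁ * r₂, R.mul_mem hr₁ hr₂, by group⟩
    exact (Subgroup.mem_set_normalizer_iff.1 (hR hr₁) d₂).1 hd₂
  | inv y _ ih =>
    obtain ⟨d, hd, r, hr, rfl⟩ := ih
    refine ⟨r⁻¹ * d⁻¹ * r⁻¹⁻¹, ?_, r⁻¹, R.inv_mem hr, by group⟩
    exact (Subgroup.mem_set_normalizer_iff.1 (hR (R.inv_mem hr)) d⁻¹).1 (D.inv_mem hd)

theorem main (hQP : QuotPrime.{u}) (hFM : FrobMod.{u}) : Quot.{u} := by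
  intro X _ _ H R D N _ _ q hA hB hidx hCO hDH hDO hRD hNO hpow hcomm d hd o ho
  have hq : q.Prime := hB.qprime
  have : Fact q.Prime := ⟨hq⟩
  have hOH : Oq X H q ≤ H := Oq_le X H q
  have hNH : N ≤ H := hNO.trans hOH
  have hHR : H ⊓ R = ⊥ := (Subgroup.disjoint_of_coprime_natCard hA.cop).eq_bot
  have hker : ∀ x : X, (QuotientGroup.mk' N) x = 1 ↔ x ∈ N := fun x => by
    rw [← MonoidHom.mem_ker, QuotientGroup.ker_mk']
  have hsurj : Function.Surjective (QuotientGroup.mk' N) := QuotientGroup.mk'_surjective N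
  have hQ := hQP H R N hNH hA.cop hA.prime
  have hsolvX : Group.IsSolvable X := hA.solv
  obtain ⟨O, hOdef⟩ : ∃ O, O = Oq X H q := ⟨_, rfl⟩
  have hOn : O.Normal := by rw [hOdef]; infer_instance
  rw [← hOdef] at hidx hCO hDO hNO hpow hcomm ho hOH
  obtain ⟨C, hCdef⟩ : ∃ C, C = H ⊓ Subgroup.centralizer (R : Set X) := ⟨_, rfl⟩
  have hCcard : Nat.card ↥C = q := by rw [hCdef]; exact hB.card
  rw [← hCdef] at hCO hQ
  set π := QuotientGroup.mk' N with hπ
  have heq : ∀ x y : X, π x = π y ↔ x⁻¹ * y ∈ N := fun x y => by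
    rw [← hker, map_mul, map_inv, inv_mul_eq_one]
  -- `V` commutative of exponent `q`
  have hV1 : ∀ a ∈ O.map π, ∀ b ∈ O.map π, a * b = b * a := by
    rintro _ ⟨a, ha, rfl⟩ _ ⟨b, hb, rfl⟩
    rw [← map_mul, ← map_mul, heq]
    have h := hcomm b⁻¹ (O.inv_mem hb) a⁻¹ (O.inv_mem ha)
    have e : (a * b)⁻¹ * (b * a) = b⁻¹ * a⁻¹ * b⁻¹⁻¹ * a⁻¹⁻¹ := by group
    rw [e]
    exact h
  have hV2 : ∀ a ∈ O.map π, a ^ q = 1 := by
    rintro _ ⟨a, ha, rfl⟩
    rw [← map_pow]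
    exact (hker _).2 (hpow a ha)
  have hVn : (O.map π).Normal := Subgroup.Normal.map hOn π hsurj
  have hnormV : ∀ S : Subgroup (X ⧸ N),
      S ≤ Subgroup.normalizer ((O.map π : Subgroup (X ⧸ N)) : Set (X ⧸ N)) := by
    intro S g _
    rw [Subgroup.mem_set_normalizer_iff]
    intro h
    constructor
    · intro hh
      exact hVn.conj_mem h hh g
    · intro hh
      have h2 := hVn.conj_mem _ hh g⁻¹
      have e : g⁻¹ * (g * h * g⁻¹) * g⁻¹⁻¹ = h := by group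
      rw [e] at h2
      exact h2
  have hRK : R.map π ≤ Subgroup.normalizer ((D.map π : Subgroup (X ⧸ N)) : Set (X ⧸ N)) :=
    (Subgroup.map_mono hRD).trans (Subgroup.le_normalizer_map π)
  -- `R' ≠ ⊥`
  obtain ⟨x₀, hx₀R, hx₀1⟩ : ∃ x ∈ R, x ≠ 1 := by
    by_contra hno
    push Not at hno
    exact hA.ne ((Subgroup.eq_bot_iff_forall R).2 hno)
  have hRN : ∀ x ∈ R, x ∈ N → x = 1 := by
    intro x hxR hxN
    have h : x ∈ H ⊓ R := ⟨hNH hxN, hxR⟩
    rw [hHR] at h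
    exact Subgroup.mem_bot.1 h
  have hy₀ : π x₀ ≠ 1 := fun h => hx₀1 (hRN x₀ hx₀R ((hker x₀).1 h))
  have hy₀R : π x₀ ∈ R.map π := Subgroup.mem_map_of_mem π hx₀R
  have hR'ne : R.map π ≠ ⊥ := by
    intro h
    rw [h] at hy₀R
    exact hy₀ (Subgroup.mem_bot.1 hy₀R)
  -- `K ⊓ C({y}) = ⊥`
  have hK0 : ∀ r ∈ R.map π, r ≠ 1 →
      D.map π ⊓ Subgroup.centralizer ({r} : Set (X ⧸ N)) = ⊥ := by
    intro y hy hy1
    rw [eq_bot_iff]
    rintro z ⟨hzK, hzC⟩
    have hz2 : z ∈ H.map π ⊓ Subgroup.centralizer ({y} : Set (X ⧸ N)) :=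
      ⟨Subgroup.map_mono hDH hzK, hzC⟩
    rw [hQ y hy hy1] at hz2
    obtain ⟨c, hc, hcz⟩ := hz2
    obtain ⟨d', hd', hdz⟩ := hzK
    have h1 : c⁻¹ * d' ∈ N := (heq c d').1 (hcz.trans hdz.symm)
    have hd'O : d' ∈ O := by
      have e : d' = c * (c⁻¹ * d') := by group
      rw [e]
      exact O.mul_mem (hCO hc) (hNO h1)
    have h2 : d' ∈ D ⊓ O := ⟨hd', hd'O⟩
    rw [hDO, Subgroup.mem_bot] at h2
    rw [Subgroup.mem_bot, ← hdz, h2, map_one]
  -- solvable, odd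
  have hsolv : Group.IsSolvable ↥(D.map π ⊔ R.map π) := inferInstance
  have hodd : Odd (Nat.card ↥(D.map π ⊔ R.map π)) := by
    have h1 : Nat.card ↥(D.map π ⊔ R.map π) ∣ Nat.card (X ⧸ N) :=
      Subgroup.card_subgroup_dvd_card _
    have h2 : Nat.card (X ⧸ N) ∣ Nat.card X := Subgroup.card_quotient_dvd_card N
    exact Odd.of_dvd_nat hA.odd (h1.trans h2)
  -- coprime to `q`
  have hcopq : (Nat.card ↥(D.map π ⊔ R.map π)).Coprime q := by
    rw [← Subgroup.map_sup]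
    apply Nat.Coprime.coprime_dvd_left (Subgroup.card_map_dvd _ _)
    apply Nat.Coprime.symm
    rw [Nat.Prime.coprime_iff_not_dvd hq]
    intro hdvd
    obtain ⟨⟨x, hx⟩, hxo⟩ := exists_prime_orderOf_dvd_card' (G := ↥(D ⊔ R)) q hdvd
    have hxo' : orderOf x = q := by
      rw [← hxo]
      exact (Subgroup.orderOf_mk x hx).symm
    have hxO : x ∈ O := by
      by_contra hxn
      have h1 : (QuotientGroup.mk' O) x ≠ 1 := fun h =>
        hxn (by rwa [← MonoidHom.mem_ker, QuotientGroup.ker_mk'] at h)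
      have h2 : (QuotientGroup.mk' O) x ^ q = 1 := by
        rw [← map_pow, ← hxo', pow_orderOf_eq_one, map_one]
      have h3 : orderOf ((QuotientGroup.mk' O) x) = q := orderOf_eq_prime h2 h1
      have h4 : q ∣ Nat.card (X ⧸ O) := by
        rw [← h3]
        exact orderOf_dvd_natCard _
      rw [← Subgroup.index_eq_card] at h4
      exact hidx h4
    obtain ⟨d', hd', r', hr', rfl⟩ := mem_sup_mul D R hRD x hx
    have hr'H : r' ∈ H := by
      have e : r' = d'⁻¹ * (d' * r') := by group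
      rw [e]
      exact H.mul_mem (H.inv_mem (hDH hd')) (hOH hxO)
    have hr'1 : r' = 1 := by
      have h : r' ∈ H ⊓ R := ⟨hr'H, hr'⟩
      rw [hHR] at h
      exact Subgroup.mem_bot.1 h
    rw [hr'1, mul_one] at hxO hxo'
    have h5 : d' ∈ D ⊓ O := ⟨hd', hxO⟩
    rw [hDO, Subgroup.mem_bot] at h5
    rw [h5, orderOf_one] at hxo'
    exact hq.one_lt.ne hxo'
  -- prime action on `V`
  have hVH : O.map π ≤ H.map π := Subgroup.map_mono hOH
  have hVC : ∀ y ∈ R.map π, y ≠ 1 →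
      O.map π ⊓ Subgroup.centralizer ({y} : Set (X ⧸ N)) = O.map π ⊓ C.map π := by
    intro y hy hy1
    rw [← hQ y hy hy1, ← inf_assoc, inf_eq_left.2 hVH]
  have hVR : O.map π ⊓ Subgroup.centralizer ((R.map π : Subgroup (X ⧸ N)) : Set (X ⧸ N)) =
      O.map π ⊓ C.map π := by
    apply le_antisymm
    · rw [← hVC (π x₀) hy₀R hy₀]
      apply inf_le_inf_left
      apply Subgroup.centralizer_le
      rw [Set.singleton_subset_iff]
      exact hy₀R
    · rintro z ⟨hzV, hzC⟩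
      refine ⟨hzV, ?_⟩
      apply Subgroup.mem_centralizer_iff.2
      intro y hy
      by_cases hy1 : y = 1
      · rw [hy1, one_mul, mul_one]
      · have h : z ∈ O.map π ⊓ Subgroup.centralizer ({y} : Set (X ⧸ N)) := by
          rw [hVC y hy hy1]
          exact ⟨hzV, hzC⟩
        exact (Subgroup.mem_centralizer_iff.1 h.2) y (Set.mem_singleton y)
  have hprimeV : ∀ x ∈ R.map π, x ≠ 1 →
      O.map π ⊓ Subgroup.centralizer ({x} : Set (X ⧸ N)) =
        O.map π ⊓ Subgroup.centralizer ((R.map π : Subgroup (X ⧸ N)) : Set (X ⧸ N)) :=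
    fun y hy hy1 => (hVC y hy hy1).trans hVR.symm
  -- cyclic fixed points
  have hcyc : IsCyclic
      ↥(O.map π ⊓ Subgroup.centralizer ((R.map π : Subgroup (X ⧸ N)) : Set (X ⧸ N))) := by
    rw [hVR]
    have hCc : IsCyclic ↥C := isCyclic_of_prime_card hCcard
    have hCm : IsCyclic ↥(C.map π) :=
      isCyclic_of_surjective (π.subgroupMap C) (π.subgroupMap_surjective C)
    exact isCyclic_of_injective (Subgroup.inclusion (inf_le_right : O.map π ⊓ C.map π ≤ C.map π))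
      (Subgroup.inclusion_injective _)
  have hres := hFM (O.map π) (D.map π) (R.map π) q hV1 hV2 (hnormV _) (hnormV _) hRK hR'ne hK0
    hsolv hodd hcopq hprimeV hcyc
  have hπd : π d ∈ ⁅D.map π, D.map π⁆ := by
    rw [← Subgroup.map_commutator]
    exact Subgroup.mem_map_of_mem π hd
  have hc := Subgroup.mem_centralizer_iff.1 (hres hπd) (π o) (Subgroup.mem_map_of_mem π ho)
  apply (hker _).1
  rw [map_mul, map_mul, map_mul, map_inv, map_inv, ← hc]
  group

end Cfsg.Agent.Lib.Helper34.S56QUOT
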