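import Mathlib
import Cfsg.Agent.Lib.Helper23.S64Stmt

/-!
# S1364 piece NSYL (call of helper23): glue of QuotPrime, QuotFit, QuotStep

`N` maximal among the normal `q`-subgroups of `X` inside `H`; `QuotStep` in `X ⧸ N` gives
`q ∤ |H.map mk| = N.relIndex H`; `C.map mk` has order dividing `q` and `|H.map mk|`, so `C ≤ N`.
-/

set_option autoImplicit false

universe u

namespace Cfsg.Agent.Lib.Helper34.S64NSYL

open Cfsg.Agent.Lib.Helper23.S64Stmt

theorem main (hP : QuotPrime.{u}) (hF : QuotFit.{u}) (hS : QuotStep.{u}) : NormSyl.{u} := by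
  intro X _ _ hsol hodd H K hHn hHK hcop hKcyc hKne hprime q hq hCq hCH
  classical
  have hbot : (fun S : Subgroup X => S.Normal ∧ S ≤ H ∧ IsPGroup q S) ⊥ :=
    ⟨inferInstance, bot_le, IsPGroup.of_bot⟩
  obtain ⟨N, -, hNmax⟩ := Finite.exists_le_maximal
    (p := fun S : Subgroup X => S.Normal ∧ S ≤ H ∧ IsPGroup q S) (a := ⊥) hbot
  obtain ⟨⟨hNn, hNH, hNq⟩, hNm⟩ := hNmax
  have hmax : ∀ S : Subgroup X, S.Normal → N ≤ S → S ≤ H → IsPGroup q S → S = N :=
    fun S hSn hNS hSH hSq => le_antisymm (hNm ⟨hSn, hSH, hSq⟩ hNS) hNS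
  have hsurj : Function.Surjective (QuotientGroup.mk' N) := QuotientGroup.mk'_surjective N
  have hker : (QuotientGroup.mk' N).ker = N := QuotientGroup.ker_mk' N
  have hsolY : Group.IsSolvable (X ⧸ N) := inferInstance
  have hoddY : Odd (Nat.card (X ⧸ N)) := hodd.of_dvd_nat (Subgroup.card_quotient_dvd_card N)
  have hHnY : (H.map (QuotientGroup.mk' N)).Normal := hHn.map _ hsurj
  have hsupY : H.map (QuotientGroup.mk' N) ⊔ K.map (QuotientGroup.mk' N) = ⊤ := by
    rw [← Subgroup.map_sup, hHK, Subgroup.map_top_of_surjective _ hsurj]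
  have hcopY : (Nat.card (H.map (QuotientGroup.mk' N))).Coprime
      (Nat.card (K.map (QuotientGroup.mk' N))) :=
    Nat.Coprime.coprime_dvd_left (Subgroup.card_map_dvd _ _)
      (Nat.Coprime.coprime_dvd_right (Subgroup.card_map_dvd _ _) hcop)
  have hcycY : IsCyclic (K.map (QuotientGroup.mk' N)) := by
    have := hKcyc
    exact isCyclic_of_surjective ((QuotientGroup.mk' N).subgroupMap K)
      ((QuotientGroup.mk' N).subgroupMap_surjective K)
  have hKneY : K.map (QuotientGroup.mk' N) ≠ ⊥ := by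
    intro h
    have h1 : K ≤ N := by
      rw [← hker]
      exact (Subgroup.map_eq_bot_iff K).1 h
    have h2 : H ⊓ K = ⊥ := (Subgroup.disjoint_of_coprime_natCard hcop).eq_bot
    apply hKne
    have h3 : K ≤ H ⊓ K := le_inf (h1.trans hNH) le_rfl
    rw [h2] at h3
    exact le_bot_iff.1 h3
  have hprimeY := hP hsol H K N hNH hcop hprime
  have hCY : (H ⊓ Subgroup.centralizer (K : Set X)).map (QuotientGroup.mk' N) ≤
      H.map (QuotientGroup.mk' N) ⊓
        Subgroup.centralizer ((K.map (QuotientGroup.mk' N) : Subgroup (X ⧸ N)) : Set (X ⧸ N)) := by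
    rintro _ ⟨c, hc, rfl⟩
    refine ⟨Subgroup.mem_map_of_mem _ hc.1, Subgroup.mem_centralizer_iff.2 ?_⟩
    rintro _ ⟨k, hk, rfl⟩
    have h := (Subgroup.mem_centralizer_iff.1 hc.2) k hk
    rw [← map_mul, ← map_mul, h]
  have hCcomm : ∀ a ∈ H ⊓ Subgroup.centralizer (K : Set X),
      ∀ b ∈ H ⊓ Subgroup.centralizer (K : Set X), a * b = b * a := by
    have : Fact q.Prime := ⟨hq⟩
    have : IsCyclic ↥(H ⊓ Subgroup.centralizer (K : Set X)) := isCyclic_of_prime_card hCq
    obtain ⟨g, hg⟩ := IsCyclic.exists_generator (α := ↥(H ⊓ Subgroup.centralizer (K : Set X)))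
    intro a ha b hb
    obtain ⟨i, hi⟩ := Subgroup.mem_zpowers_iff.1 (hg ⟨a, ha⟩)
    obtain ⟨j, hj⟩ := Subgroup.mem_zpowers_iff.1 (hg ⟨b, hb⟩)
    have h := (Commute.zpow_zpow_self g i j).eq
    rw [hi, hj] at h
    exact congrArg Subtype.val h
  have hCcommY : ∀ a ∈ (H ⊓ Subgroup.centralizer (K : Set X)).map (QuotientGroup.mk' N),
      ∀ b ∈ (H ⊓ Subgroup.centralizer (K : Set X)).map (QuotientGroup.mk' N), a * b = b * a := by
    rintro _ ⟨a, ha, rfl⟩ _ ⟨b, hb, rfl⟩
    rw [← map_mul, ← map_mul, hCcomm a ha b hb]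
  have hCexp : ∀ y ∈ (H ⊓ Subgroup.centralizer (K : Set X)).map (QuotientGroup.mk' N),
      y ^ q = 1 := by
    rintro _ ⟨c, hc, rfl⟩
    have h1 : (⟨c, hc⟩ : ↥(H ⊓ Subgroup.centralizer (K : Set X))) ^ q = 1 := by
      rw [← hCq]
      exact pow_card_eq_one'
    have h2 : c ^ q = 1 := congrArg Subtype.val h1
    rw [← map_pow, h2, map_one]
  have hFY := hF H N hHn hNH q hq hNq hmax
  have hCcommutY : (H ⊓ Subgroup.centralizer (K : Set X)).map (QuotientGroup.mk' N) ≤
      ⁅H.map (QuotientGroup.mk' N), H.map (QuotientGroup.mk' N)⁆ := by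
    rw [← Subgroup.map_commutator]
    exact Subgroup.map_mono hCH
  have hres : ¬ q ∣ Nat.card (H.map (QuotientGroup.mk' N)) :=
    hS hsolY hoddY (H.map (QuotientGroup.mk' N)) (K.map (QuotientGroup.mk' N))
      ((H ⊓ Subgroup.centralizer (K : Set X)).map (QuotientGroup.mk' N)) hHnY hsupY hcopY hcycY
      hKneY hprimeY hCY hCcommY q hq hCexp hFY hCcommutY
  have hrel : N.relIndex H = Nat.card (H.map (QuotientGroup.mk' N)) := by
    have h1 := Subgroup.relIndex_map_map (QuotientGroup.mk' N) N H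
    rw [hker, sup_idem, sup_eq_left.2 hNH,
      (Subgroup.map_eq_bot_iff N (f := QuotientGroup.mk' N)).2 (by rw [hker]),
      Subgroup.relIndex_bot_left] at h1
    exact h1.symm
  refine ⟨N, hNn, hNH, hNq, by rw [hrel]; exact hres, ?_⟩
  have hCbot : (H ⊓ Subgroup.centralizer (K : Set X)).map (QuotientGroup.mk' N) = ⊥ := by
    rw [← Subgroup.card_eq_one]
    have h1 : Nat.card ((H ⊓ Subgroup.centralizer (K : Set X)).map (QuotientGroup.mk' N)) ∣ q := by
      rw [← hCq]
      exact Subgroup.card_map_dvd _ _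
    have h2 : Nat.card ((H ⊓ Subgroup.centralizer (K : Set X)).map (QuotientGroup.mk' N)) ∣
        Nat.card (H.map (QuotientGroup.mk' N)) :=
      Subgroup.card_dvd_of_le (Subgroup.map_mono inf_le_left)
    rcases (Nat.dvd_prime hq).1 h1 with h | h
    · exact h
    · rw [h] at h2
      exact absurd h2 hres
  have h := (Subgroup.map_eq_bot_iff _).1 hCbot
  rw [hker] at h
  exact h

end Cfsg.Agent.Lib.Helper34.S64NSYL
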