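import Mathlib
import Cfsg.Agent.Lib.Helper14.TC3Stmt

/-!
# S4460 / B2D (helper34): `⁅L P, L P⁆ ≤ ⁅L, P⁆ ⁅P, P⁆` when `L` is normal and `L' ≤ ⁅L, P⁆`
-/

set_option autoImplicit false

namespace Cfsg.Agent.Lib.Helper34.TC3B2D

open Cfsg.Agent.Lib.Helper14.TC3Stmt
open scoped commutatorElement

universe u

theorem main : B2D.{u} := by
  intro G _ L P hL hLL
  -- `⁅L, P⁆` is normalized by `L`
  have hEL : ∀ l ∈ L, ∀ d ∈ ⁅L, P⁆, l * d * l⁻¹ ∈ ⁅L, P⁆ := by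
    intro l hl
    have h0 : ⁅L, P⁆ ≤ (⁅L, P⁆).comap (MulAut.conj l).toMonoidHom := by
      rw [Subgroup.commutator_le]
      intro g₁ h₁ g₂ h₂
      rw [Subgroup.mem_comap]
      have e : (MulAut.conj l).toMonoidHom ⁅g₁, g₂⁆ = ⁅l * g₁, g₂⁆ * ⁅l, g₂⁆⁻¹ := by
        simp only [MulEquiv.toMonoidHom_eq_coe, MonoidHom.coe_coe, MulAut.conj_apply,
          commutatorElement_def]
        group
      rw [e]
      exact Subgroup.mul_mem _ (Subgroup.commutator_mem_commutator (L.mul_mem hl h₁) h₂)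
        (Subgroup.inv_mem _ (Subgroup.commutator_mem_commutator hl h₂))
    intro d hd
    have h1 := h0 hd
    rw [Subgroup.mem_comap] at h1
    simpa using h1
  -- `⁅L, P⁆ ⊔ ⁅P, P⁆` is normalized by `L`
  have hDL : ∀ l ∈ L, ∀ d ∈ ⁅L, P⁆ ⊔ ⁅P, P⁆, l * d * l⁻¹ ∈ ⁅L, P⁆ ⊔ ⁅P, P⁆ := by
    intro l hl
    have h0 : ⁅L, P⁆ ⊔ ⁅P, P⁆ ≤ (⁅L, P⁆ ⊔ ⁅P, P⁆).comap (MulAut.conj l).toMonoidHom := by
      apply sup_le
      · intro d hd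
        rw [Subgroup.mem_comap]
        have h1 := hEL l hl d hd
        have e : (MulAut.conj l).toMonoidHom d = l * d * l⁻¹ := by simp
        rw [e]
        exact (le_sup_left : ⁅L, P⁆ ≤ ⁅L, P⁆ ⊔ ⁅P, P⁆) h1
      · rw [Subgroup.commutator_le]
        intro g₁ h₁ g₂ h₂
        rw [Subgroup.mem_comap]
        have e : (MulAut.conj l).toMonoidHom ⁅g₁, g₂⁆ = ⁅l, ⁅g₁, g₂⁆⁆ * ⁅g₁, g₂⁆ := by
          simp only [MulEquiv.toMonoidHom_eq_coe, MonoidHom.coe_coe, MulAut.conj_apply,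
            commutatorElement_def]
          group
        rw [e]
        have hw : ⁅g₁, g₂⁆ ∈ P := by
          rw [commutatorElement_def]
          exact P.mul_mem (P.mul_mem (P.mul_mem h₁ h₂) (P.inv_mem h₁)) (P.inv_mem h₂)
        exact Subgroup.mul_mem _
          ((le_sup_left : ⁅L, P⁆ ≤ ⁅L, P⁆ ⊔ ⁅P, P⁆) (Subgroup.commutator_mem_commutator hl hw))
          ((le_sup_right : ⁅P, P⁆ ≤ ⁅L, P⁆ ⊔ ⁅P, P⁆) (Subgroup.commutator_mem_commutator h₁ h₂))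
    intro d hd
    have h1 := h0 hd
    rw [Subgroup.mem_comap] at h1
    simpa using h1
  rw [Subgroup.commutator_le]
  intro g₁ hg₁ g₂ hg₂
  have hg₁' : g₁ ∈ ((L ⊔ P : Subgroup G) : Set G) := hg₁
  have hg₂' : g₂ ∈ ((L ⊔ P : Subgroup G) : Set G) := hg₂
  rw [Subgroup.normal_mul] at hg₁' hg₂'
  obtain ⟨l₁, hl₁, y₁, hy₁, rfl⟩ := Set.mem_mul.1 hg₁'
  obtain ⟨l₂, hl₂, y₂, hy₂, rfl⟩ := Set.mem_mul.1 hg₂'
  have e : ⁅l₁ * y₁, l₂ * y₂⁆ = l₁ * (⁅y₁, l₂⁆ * (l₂ * ⁅y₁, y₂⁆ * l₂⁻¹)) * l₁⁻¹ *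
      (⁅l₁, l₂⁆ * (l₂ * ⁅l₁, y₂⁆ * l₂⁻¹)) := by
    simp only [commutatorElement_def]
    group
  rw [e]
  have hE : ⁅L, P⁆ ≤ ⁅L, P⁆ ⊔ ⁅P, P⁆ := le_sup_left
  have hPP : ⁅P, P⁆ ≤ ⁅L, P⁆ ⊔ ⁅P, P⁆ := le_sup_right
  have h1 : ⁅y₁, l₂⁆ ∈ ⁅L, P⁆ := by
    rw [Subgroup.commutator_comm]
    exact Subgroup.commutator_mem_commutator hy₁ hl₂
  refine Subgroup.mul_mem _ (hDL l₁ hl₁ _ (Subgroup.mul_mem _ (hE h1)
    (hDL l₂ hl₂ _ (hPP (Subgroup.commutator_mem_commutator hy₁ hy₂)))))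
    (Subgroup.mul_mem _ (hE (hLL (Subgroup.commutator_mem_commutator hl₁ hl₂)))
      (hDL l₂ hl₂ _ (hE (Subgroup.commutator_mem_commutator hl₁ hy₂))))

end Cfsg.Agent.Lib.Helper34.TC3B2D
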