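import Mathlib
import Cfsg.Agent.Lib.Helper44.TPStmt
import Cfsg.Agent.Lib.Helper44.NegPairs
import Cfsg.Agent.Lib.Helper34.CWCore

/-!
# S5973 piece PAIRE (call by helper44), all `q`: Chevalley–Warning route

Two orthogonal invariant nondegenerate blocks `B₁`, `B₂` of finrank `i` (even) killed by the same
irreducible `P`: `M = B₁ ⊔ B₂` contains an invariant totally singular subspace of finrank `i`
(`CWCore.core` gives `w ≠ 0` in `M` with `Q w = 0` and `B (x^a w, x^b w) = 0`; the span of the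
`x^k w` is invariant and totally singular, of finrank `i` by InvDim and TsHalf).
-/

set_option autoImplicit false

universe u

open scoped Matrix

namespace Cfsg.Agent.Lib.Helper34.TPPAIRE

open Cfsg.Agent.Lib.Helper37.HypStmt (cc IPos)
open Cfsg.Agent.Lib.Helper44.TSStmt (Fac)
open Cfsg.Agent.Lib.Helper44.TPStmt
open Cfsg.Agent.Lib.Helper44.NegPairs (plusQ)
open Cfsg.Agent.Lib.Helper34

theorem mem_Fx_iff {F : Type u} [Field F] {d : ℕ} (x : Matrix (J d) (J d) F) (v : J d → F) :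
    v ∈ Fx x ↔ x *ᵥ v = v := by
  unfold Fx
  rw [LinearMap.mem_ker, LinearMap.sub_apply, Matrix.toLin'_apply, LinearMap.id_apply, sub_eq_zero]

/-- [PAIRE] -/
theorem main (hIPos : IPos.{u}) (hInv : InvDim.{u}) (hOrth : OrthSum.{u}) (hHalf : TsHalf.{u}) :
    PairE.{u} := by
  intro F _ _ p _ _ d r _ hr2 hrp heven x hx hxr P hP B₁ B₂ hS1 hS2 hN1 hN2 hF1 hF2 hd1 hd2
    horth hK1 hK2
  classical
  have hipos : 0 < orderOf ((Fintype.card F : ℕ) : ZMod r) := hIPos F p r hrp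
  obtain ⟨e, he⟩ := heven
  have hepos : 0 < e := by omega
  obtain ⟨hPm, hPirr, hPdvd⟩ := hP
  have hdegi : P.natDegree = orderOf ((Fintype.card F : ℕ) : ZMod r) := by
    obtain ⟨n, hp, hcard⟩ := FiniteField.card F p
    have hcop : p.Coprime r :=
      (Nat.coprime_primes (Fact.out : p.Prime) (Fact.out : r.Prime)).2 (Ne.symm hrp)
    have h1 := Polynomial.natDegree_of_dvd_cyclotomic_of_irreducible (K := F) (p := p)
      (f := (n : ℕ)) (n := r) hcard hcop hPdvd hPirr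
    rw [h1, ← orderOf_units, ZMod.coe_unitOfCoprime, hcard]
  have hdeg : P.natDegree = 2 * e := by rw [hdegi, he]; omega
  obtain ⟨f, hf⟩ : ∃ f : (J d → F) →ₗ[F] (J d → F),
      f = Matrix.toLin' (x : Matrix (J d) (J d) F) := ⟨_, rfl⟩
  have hfx : ∀ v, f v = (x : Matrix (J d) (J d) F) *ᵥ v := by
    intro v; rw [hf, Matrix.toLin'_apply]
  have hiso : ∀ v, plusQ d F (f v) = plusQ d F v := by
    intro v
    rw [hfx]
    exact hx v v
  have hS1' : ∀ v ∈ B₁, f v ∈ B₁ := by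
    intro v hv
    rw [hf]
    exact hS1 (Submodule.mem_map_of_mem hv)
  have hS2' : ∀ v ∈ B₂, f v ∈ B₂ := by
    intro v hv
    rw [hf]
    exact hS2 (Submodule.mem_map_of_mem hv)
  obtain ⟨hNM, hinf, hfinM⟩ := hOrth F d B₁ B₂ hN1 hN2 horth
  have hStabM : ∀ v ∈ B₁ ⊔ B₂, f v ∈ B₁ ⊔ B₂ := by
    intro v hv
    obtain ⟨u1, hu1, u2, hu2, rfl⟩ := Submodule.mem_sup.1 hv
    rw [map_add]
    exact Submodule.add_mem _ (Submodule.mem_sup_left (hS1' u1 hu1))
      (Submodule.mem_sup_right (hS2' u2 hu2))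
  have hkill : ∀ v ∈ B₁ ⊔ B₂, (Polynomial.aeval f P) v = 0 := by
    intro v hv
    obtain ⟨u1, hu1, u2, hu2, rfl⟩ := Submodule.mem_sup.1 hv
    have e1 := hK1 u1 hu1
    have e2 := hK2 u2 hu2
    rw [← hf] at e1 e2
    rw [map_add, e1, e2, add_zero]
  have hMFx : (B₁ ⊔ B₂) ⊓ Fx (x : Matrix (J d) (J d) F) = ⊥ := by
    rw [eq_bot_iff]
    rintro v ⟨hv, hvF⟩
    obtain ⟨u1, hu1, u2, hu2, rfl⟩ := Submodule.mem_sup.1 hv
    have hfix : f (u1 + u2) = u1 + u2 := by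
      rw [hfx]
      exact (mem_Fx_iff _ _).1 hvF
    rw [map_add] at hfix
    have hz : f u1 - u1 = u2 - f u2 := sub_eq_sub_iff_add_eq_add.2 (by rw [hfix, add_comm])
    have hz1 : f u1 - u1 ∈ B₁ := Submodule.sub_mem _ (hS1' u1 hu1) hu1
    have hz2 : f u1 - u1 ∈ B₂ := by
      rw [hz]; exact Submodule.sub_mem _ hu2 (hS2' u2 hu2)
    have hz0 : f u1 - u1 = 0 := by
      have : f u1 - u1 ∈ B₁ ⊓ B₂ := ⟨hz1, hz2⟩
      rw [hinf] at this
      exact (Submodule.mem_bot F).1 this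
    have hu1F : u1 ∈ B₁ ⊓ Fx (x : Matrix (J d) (J d) F) := by
      refine ⟨hu1, (mem_Fx_iff _ _).2 ?_⟩
      rw [← hfx]
      exact sub_eq_zero.1 hz0
    have hu2F : u2 ∈ B₂ ⊓ Fx (x : Matrix (J d) (J d) F) := by
      refine ⟨hu2, (mem_Fx_iff _ _).2 ?_⟩
      rw [← hfx]
      rw [hz0] at hz
      exact (sub_eq_zero.1 hz.symm).symm
    rw [hF1] at hu1F
    rw [hF2] at hu2F
    rw [(Submodule.mem_bot F).1 hu1F, (Submodule.mem_bot F).1 hu2F, add_zero]
    exact Submodule.zero_mem _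
  have hfinM' : 2 * e < Module.finrank F ↥(B₁ ⊔ B₂) := by
    rw [hfinM, hd1, hd2, he]; omega
  have hMnd : ∀ z ∈ B₁ ⊔ B₂,
      (∀ u ∈ B₁ ⊔ B₂, QuadraticMap.polar (plusQ d F) u z = 0) → z = 0 := by
    intro z hz h
    by_contra hz0
    obtain ⟨⟨u, hu, hne⟩, -⟩ := hNM z hz hz0
    exact hne (h u hu)
  obtain ⟨w, hwM, hw0, hQw, hw⟩ := CWCore.core p (plusQ d F) f hiso (B₁ ⊔ B₂) hStabM hMnd P hPm
    hPirr e hepos hdeg hkill hfinM'
  obtain ⟨U, hU⟩ : ∃ U : Submodule F (J d → F),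
      U = Submodule.span F (Set.range fun k : ℕ => (f ^ k) w) := ⟨_, rfl⟩
  have hwU : w ∈ U := by
    rw [hU]
    exact Submodule.subset_span ⟨0, by
      show (f ^ 0) w = w
      rw [pow_zero, Module.End.one_apply]⟩
  have hUM : U ≤ B₁ ⊔ B₂ := by
    rw [hU, Submodule.span_le]
    rintro _ ⟨k, rfl⟩
    exact CWCore.pow_mem_of_stable f (B₁ ⊔ B₂) hStabM k w hwM
  have hStabU : Stab (x : Matrix (J d) (J d) F) U := by
    show Submodule.map (Matrix.toLin' (x : Matrix (J d) (J d) F)) U ≤ U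
    rw [← hf, hU, Submodule.map_span, Submodule.span_le]
    rintro _ ⟨_, ⟨k, rfl⟩, rfl⟩
    apply Submodule.subset_span
    exact ⟨k + 1, by
      show (f ^ (k + 1)) w = f ((f ^ k) w)
      rw [pow_succ', Module.End.mul_apply]⟩
  have hTS : TSub d F U := by
    intro u hu
    rw [hU] at hu
    exact CWCore.span_q (plusQ d F) f hiso w hQw hw u hu
  have hUFx : U ⊓ Fx (x : Matrix (J d) (J d) F) = ⊥ :=
    eq_bot_iff.2 (le_trans (inf_le_inf_right _ hUM) hMFx.le)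
  have hdvd := hInv F p d r hrp x hxr U hStabU hUFx
  have hle := hHalf F d (B₁ ⊔ B₂) U hNM hUM hTS
  have hpos : 0 < Module.finrank F ↥U := by
    apply Nat.pos_of_ne_zero
    intro h
    rw [Submodule.finrank_eq_zero] at h
    rw [h] at hwU
    exact hw0 ((Submodule.mem_bot F).1 hwU)
  refine ⟨U, hUM, hStabU, hTS, ?_⟩
  have h1 := Nat.le_of_dvd hpos hdvd
  rw [hfinM, hd1, hd2] at hle
  omega

end Cfsg.Agent.Lib.Helper34.TPPAIRE
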